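import Cfsg.Agent.Lib.PSL2Sub.Binary.Matrices

/-!
The binary coset actions of `PSL₂(2ⁿ)`.
-/

set_option autoImplicit false
set_option linter.unusedSectionVars false

namespace CfsgLib.PSL2Sub.Binary

open Matrix CfsgLib.SL2Trace
open scoped Classical

variable {F : Type*} [Field F]

local notation "SL2" => SpecialLinearGroup (Fin 2) F

/-- The first column. -/
def col (M : SL2) : Fin 2 → F := fun i => (M : Matrix (Fin 2) (Fin 2) F) i 0

theorem col_mul (A M : SL2) : col (A * M) = (A : Matrix (Fin 2) (Fin 2) F) *ᵥ col M := by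
  funext i
  rw [col, Matrix.SpecialLinearGroup.coe_mul, Matrix.mul_apply]
  rfl

/-- The determinant of two columns. -/
def cdet (u v : Fin 2 → F) : F := u 0 * v 1 - u 1 * v 0

theorem cdet_mulVec (A : SL2) (u v : Fin 2 → F) :
    cdet ((A : Matrix (Fin 2) (Fin 2) F) *ᵥ u) ((A : Matrix (Fin 2) (Fin 2) F) *ᵥ v) = cdet u v := by
  simp only [cdet, Matrix.mulVec, dotProduct, Fin.sum_univ_two]
  linear_combination (u 0 * v 1 - u 1 * v 0) * det_coe A

theorem col_ne_zero (M : SL2) : col M ≠ 0 := fun h => by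
  have hd := det_coe M
  have h0 : (M : Matrix (Fin 2) (Fin 2) F) 0 0 = 0 := congrFun h 0
  have h1 : (M : Matrix (Fin 2) (Fin 2) F) 1 0 = 0 := congrFun h 1
  rw [h0, h1] at hd
  simp at hd

theorem smul_coset_iff (hchar : (2 : F) = 0) (A M N : SL2) :
    (toPSL A) • (QuotientGroup.mk (toPSL M) : PS F ⧸ unip F) = QuotientGroup.mk (toPSL N) ↔
      (A : Matrix (Fin 2) (Fin 2) F) *ᵥ col M = col N := by
  rw [smul_mk_eq_iff, ← col_mul, mem_unip_iff]
  have e : (toPSL N)⁻¹ * toPSL A * toPSL M = toPSL (N⁻¹ * (A * M)) := by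
    simp only [toPSL, QuotientGroup.mk_mul, QuotientGroup.mk_inv, mul_assoc]
  rw [e]
  constructor
  · rintro ⟨x, hx⟩
    have h : N⁻¹ * (A * M) = up x := by
      rcases mk_eq_cases hx with h | h
      · exact h
      · refine sl_ext ?_
        rw [h]
        ext i j
        rw [Matrix.neg_apply]
        linear_combination -((up x : SL2) : Matrix (Fin 2) (Fin 2) F) i j * hchar
    rw [← mul_inv_cancel_left N (A * M), h]
    funext i
    show ((N * up x : SL2) : Matrix (Fin 2) (Fin 2) F) i 0 = _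
    rw [Matrix.SpecialLinearGroup.coe_mul, Matrix.mul_apply, Fin.sum_univ_two]
    simp [up, coe_mk2, col]
  · intro h
    have hc : col (N⁻¹ * (A * M)) = col (1 : SL2) := by
      rw [col_mul, h, ← col_mul, inv_mul_cancel]
    set W := N⁻¹ * (A * M) with hW
    refine ⟨(W : Matrix (Fin 2) (Fin 2) F) 0 1, congrArg toPSL (sl_ext ?_)⟩
    have h00 : (W : Matrix (Fin 2) (Fin 2) F) 0 0 = 1 := by
      simpa [col] using congrFun hc 0
    have h10 : (W : Matrix (Fin 2) (Fin 2) F) 1 0 = 0 := by
      simpa [col] using congrFun hc 1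
    have h11 : (W : Matrix (Fin 2) (Fin 2) F) 1 1 = 1 := by
      have hd := det_coe W
      rw [h00, h10] at hd
      linear_combination hd
    rw [up, coe_mk2]
    ext i j
    fin_cases i <;> fin_cases j <;> simp [h00, h10, h11]

/-- The action on the non-zero vectors is binary. -/
theorem isBinary_unip (hchar : (2 : F) = 0) : IsBinary (unip F) := by
  intro n I J hn hpair
  choose M hM using fun i => QuotientGroup.mk_surjective (I i)
  choose M' hM' using fun i => QuotientGroup.mk_surjective (M i)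
  choose N hN using fun i => QuotientGroup.mk_surjective (J i)
  choose N' hN' using fun i => QuotientGroup.mk_surjective (N i)
  have hiff : ∀ (A : SL2) (i : Fin n), toPSL A • I i = J i ↔
      (A : Matrix (Fin 2) (Fin 2) F) *ᵥ col (M' i) = col (N' i) := fun A i => by
    rw [← hM i, ← hN i, ← hM' i, ← hN' i]
    exact smul_coset_iff hchar A (M' i) (N' i)
  have hp : ∀ i j : Fin n, i ≠ j → ∃ A : SL2,
      (A : Matrix (Fin 2) (Fin 2) F) *ᵥ col (M' i) = col (N' i) ∧
      (A : Matrix (Fin 2) (Fin 2) F) *ᵥ col (M' j) = col (N' j) := fun i j hij => by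
    obtain ⟨g, h1, h2⟩ := hpair i j hij
    obtain ⟨A, rfl⟩ := QuotientGroup.mk_surjective g
    exact ⟨A, (hiff A i).mp h1, (hiff A j).mp h2⟩
  have hdet : ∀ i j, cdet (col (M' i)) (col (M' j)) = cdet (col (N' i)) (col (N' j)) := fun i j => by
    by_cases hij : i = j
    · subst hij
      simp [cdet, mul_comm]
    · obtain ⟨A, h1, h2⟩ := hp i j hij
      rw [← h1, ← h2, cdet_mulVec]
  set z : Fin n := ⟨0, by omega⟩
  by_cases hdep : ∃ j, cdet (col (M' z)) (col (M' j)) ≠ 0
  · obtain ⟨j, hj⟩ := hdep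
    have hzj : z ≠ j := fun h => hj (by rw [← h]; simp [cdet, mul_comm])
    obtain ⟨A, h1, h2⟩ := hp z j hzj
    refine ⟨toPSL A, fun k => (hiff A k).mpr ?_⟩
    set x := (A : Matrix (Fin 2) (Fin 2) F) *ᵥ col (M' k) - col (N' k) with hx
    have e1 : cdet (col (N' z)) x = 0 := by
      have := cdet_mulVec A (col (M' z)) (col (M' k))
      rw [h1, hdet] at this
      simp only [cdet, hx, Pi.sub_apply] at this ⊢
      linear_combination this
    have e2 : cdet (col (N' j)) x = 0 := by
      have := cdet_mulVec A (col (M' j)) (col (M' k))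
      rw [h2, hdet] at this
      simp only [cdet, hx, Pi.sub_apply] at this ⊢
      linear_combination this
    rw [hdet] at hj
    simp only [cdet] at e1 e2 hj
    rw [← sub_eq_zero]
    show x = 0
    funext i
    fin_cases i
    · refine (mul_eq_zero.mp (show x 0 *
        (col (N' z) 0 * col (N' j) 1 - col (N' z) 1 * col (N' j) 0) = 0 by
        linear_combination col (N' j) 0 * e1 - col (N' z) 0 * e2)).resolve_right hj
    · refine (mul_eq_zero.mp (show x 1 *
        (col (N' z) 0 * col (N' j) 1 - col (N' z) 1 * col (N' j) 0) = 0 by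
        linear_combination col (N' j) 1 * e1 - col (N' z) 1 * e2)).resolve_right hj
  · push Not at hdep
    obtain ⟨A, h1, -⟩ := hp z ⟨1, by omega⟩ (by simp [z])
    refine ⟨toPSL A, fun k => (hiff A k).mpr ?_⟩
    obtain ⟨c, hc⟩ : ∃ c : F, col (M' k) = c • col (M' z) := by
      have h0 := hdep k
      simp only [cdet] at h0
      by_cases hz0 : col (M' z) 0 = 0
      · have hz1 : col (M' z) 1 ≠ 0 := fun h => col_ne_zero (M' z) (funext fun i => by
          fin_cases i
          · exact hz0
          · exact h)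
        refine ⟨col (M' k) 1 / col (M' z) 1, funext fun i => ?_⟩
        fin_cases i
        · rw [hz0, zero_mul, zero_sub, neg_eq_zero] at h0
          simp [hz0, (mul_eq_zero.mp h0).resolve_left hz1]
        · simp [hz1]
      · refine ⟨col (M' k) 0 / col (M' z) 0, funext fun i => ?_⟩
        fin_cases i
        · simp [hz0]
        · show col (M' k) 1 = col (M' k) 0 / col (M' z) 0 * col (M' z) 1
          field_simp
          linear_combination h0
    rw [hc, Matrix.mulVec_smul, h1]
    by_cases hzk : z = k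
    · rw [← hzk] at hc ⊢
      have : c = 1 := by
        by_contra hne
        apply col_ne_zero (M' z)
        have : (1 - c) • col (M' z) = 0 := by rw [sub_smul, one_smul, ← hc, sub_self]
        exact (smul_eq_zero.mp this).resolve_left (sub_ne_zero.mpr (Ne.symm hne))
      rw [this, one_smul]
    · obtain ⟨B, g1, g2⟩ := hp z k hzk
      rw [← g2, hc, Matrix.mulVec_smul, g1]

variable [Fintype F]

theorem trace_eq_one_of_order_three (hchar : (2 : F) = 0) {M : SL2} (h3 : toPSL M ^ 3 = 1)
    (hne : toPSL M ≠ 1) : (M : Matrix (Fin 2) (Fin 2) F).trace = 1 := by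
  have ht := (trace_of_pow M hne).2.1 h3
  have : ((M : Matrix (Fin 2) (Fin 2) F).trace - 1) ^ 2 = 0 := by
    linear_combination ht + (1 - (M : Matrix (Fin 2) (Fin 2) F).trace) * hchar
  exact sub_eq_zero.mp ((pow_eq_zero_iff two_ne_zero).mp this)

/-- Two elements of order three with product of order three generate a cyclic group. -/
theorem eq_of_triangle (hchar : (2 : F) = 0) (hroot : ¬ ∃ u : F, u ^ 2 + u + 1 = 0) {h c : PS F}
    (hh : h ^ 3 = 1) (hh1 : h ≠ 1) (hc : c ^ 3 = 1) (hc1 : c ≠ 1) (hb : (h * c) ^ 3 = 1)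
    (hb1 : h * c ≠ 1) : c = h := by
  obtain ⟨M, rfl⟩ := QuotientGroup.mk_surjective h
  obtain ⟨C, rfl⟩ := QuotientGroup.mk_surjective c
  have tM := trace_eq_one_of_order_three hchar hh hh1
  have tC := trace_eq_one_of_order_three hchar hc hc1
  have tB := trace_eq_one_of_order_three (M := M * C) hchar hb hb1
  have hreg : (M : Matrix (Fin 2) (Fin 2) F).trace ^ 2 ≠ 4 := by
    rw [tM]
    intro h
    exact one_ne_zero (α := F) (by linear_combination h + 2 * hchar)
  obtain ⟨P, hP⟩ := exists_conj_comp M hreg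
  rw [tM] at hP
  set C' := P⁻¹ * C * P with hC'
  have tC' : (C' : Matrix (Fin 2) (Fin 2) F).trace = 1 := by
    have := trace_mul_mul_inv (G := P⁻¹) C
    rw [inv_inv] at this
    rw [hC', this, tC]
  have tB' : ((comp (1 : F) * C' : SL2) : Matrix (Fin 2) (Fin 2) F).trace = 1 := by
    have e : comp (1 : F) * C' = P⁻¹ * (M * C) * P⁻¹⁻¹ := by
      rw [hC', hP]; group
    rw [e, trace_mul_mul_inv, tB]
  have hd := det_coe C'
  rw [Matrix.SpecialLinearGroup.coe_mul, coe_comp, trace_fin_two] at tB'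
  rw [trace_fin_two] at tC'
  simp [Matrix.mul_apply, Fin.sum_univ_two] at tB'
  set p := (C' : Matrix (Fin 2) (Fin 2) F) 0 0
  set q := (C' : Matrix (Fin 2) (Fin 2) F) 0 1
  set r := (C' : Matrix (Fin 2) (Fin 2) F) 1 0
  set s := (C' : Matrix (Fin 2) (Fin 2) F) 1 1
  have hq : q = r + p := by linear_combination tB' - tC'
  have hs : s = p + 1 := by linear_combination tC' - p * hchar
  have hform : p ^ 2 + p * (r + 1) + (r + 1) ^ 2 = 0 := by
    rw [hq, hs] at hd
    linear_combination hd + (r + r ^ 2 + p * r + 1) * hchar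
  have hr : r + 1 = 0 := by
    by_contra hne
    refine hroot ⟨p / (r + 1), ?_⟩
    field_simp
    linear_combination hform
  have hp0 : p = 0 := (pow_eq_zero_iff two_ne_zero).mp
    (by linear_combination hform - (p + r + 1) * hr : p ^ 2 = 0)
  have hr1 : r = 1 := by linear_combination hr - hchar
  refine congrArg toPSL (show C = M from ?_)
  rw [hP, show C = P * C' * P⁻¹ by rw [hC']; group]
  congr 2
  apply sl_ext
  rw [coe_comp]
  ext i j
  fin_cases i <;> fin_cases j <;> simp
  · exact hp0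
  · show q = -1
    linear_combination hq + hp0 + hr1 + hchar
  · exact hr1
  · show s = 1
    linear_combination hs + hp0

/-- The action on the cosets of a subgroup of order three is binary when `q` is an odd power of two. -/
theorem isBinary_order_three (hchar : (2 : F) = 0) (hroot : ¬ ∃ u : F, u ^ 2 + u + 1 = 0)
    {H : Subgroup (PS F)} (hH : Nat.card H = 3) : IsBinary H := by
  intro n I J hn hpair
  let S : Fin n → Subgroup (PS F) := fun i => MulAction.stabilizer (PS F) (I i)
  have hS : ∀ i, ∀ x ∈ S i, x ^ 3 = 1 ∧ ∀ y ∈ S i, x ≠ 1 → y ∈ Subgroup.zpowers x := by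
    intro i x hx
    obtain ⟨g, hg⟩ := QuotientGroup.mk_surjective (I i)
    have key : ∀ y ∈ S i, g⁻¹ * y * g ∈ H := fun y hy => by
      rw [← smul_self_iff, hg]
      exact hy
    refine ⟨?_, fun y hy hx1 => ?_⟩
    · have h3 : (g⁻¹ * x * g) ^ 3 = 1 := by
        have := pow_card_eq_one' (x := (⟨_, key x hx⟩ : H))
        rw [hH] at this
        exact congrArg Subtype.val this
      have e : (g⁻¹ * x * g) ^ 3 = g⁻¹ * x ^ 3 * g := by
        simp only [pow_succ, pow_zero, one_mul, mul_assoc, mul_inv_cancel_left]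
      rw [e] at h3
      calc x ^ 3 = g * (g⁻¹ * x ^ 3 * g) * g⁻¹ := by group
        _ = 1 := by rw [h3, mul_one, mul_inv_cancel]
    · haveI : Fact (Nat.Prime 3) := ⟨Nat.prime_three⟩
      have hne : (⟨_, key x hx⟩ : H) ≠ 1 := fun e => hx1 (by
        have e' := congrArg Subtype.val e
        calc x = g * (g⁻¹ * x * g) * g⁻¹ := by group
          _ = 1 := by rw [show g⁻¹ * x * g = 1 from e', mul_one, mul_inv_cancel])
      obtain ⟨k, hk⟩ := Subgroup.mem_zpowers_iff.mp
        (mem_zpowers_of_prime_card hH hne : (⟨_, key y hy⟩ : H) ∈ _)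
      have hk' := congrArg Subtype.val hk
      rw [Subgroup.coe_zpow] at hk'
      refine Subgroup.mem_zpowers_iff.mpr ⟨k, ?_⟩
      have e : (g⁻¹ * x * g) ^ k = g⁻¹ * x ^ k * g := by
        have := conj_zpow (i := k) (a := g⁻¹) (b := x)
        rwa [inv_inv] at this
      rw [show ((⟨_, key x hx⟩ : H) : PS F) = g⁻¹ * x * g from rfl, e] at hk'
      exact mul_left_cancel (mul_right_cancel hk')
  have hsame : ∀ i j, (∃ x ∈ S i, x ∈ S j ∧ x ≠ 1) → S i ≤ S j := by
    rintro i j ⟨x, hi, hj, hx⟩ y hy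
    exact Subgroup.zpowers_le.mpr hj ((hS i x hi).2 y hy hx)
  have hmove : ∀ i {g g' : PS F}, g • I i = J i → g' • I i = J i → g⁻¹ * g' ∈ S i :=
    fun i g g' h h' => MulAction.mem_stabilizer_iff.mpr (by rw [mul_smul, h', ← h, inv_smul_smul])
  have hback : ∀ i {g g' : PS F}, g' • I i = J i → g⁻¹ * g' ∈ S i → g • I i = J i :=
    fun i g g' h' hm => by
      rw [← h', ← mul_inv_cancel_left g g', mul_smul, MulAction.mem_stabilizer_iff.mp hm]
  set z : Fin n := ⟨0, by omega⟩
  by_cases hall : ∀ k, S z ≤ S k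
  · obtain ⟨g, hg, -⟩ := hpair z ⟨1, by omega⟩ (by simp [z])
    refine ⟨g, fun k => ?_⟩
    by_cases hk : z = k
    · rw [← hk]; exact hg
    · obtain ⟨g', h1, h2⟩ := hpair z k hk
      exact hback k h2 (hall k (hmove z hg h1))
  push Not at hall
  obtain ⟨j, hj⟩ := hall
  have hzj : z ≠ j := fun h => hj (h ▸ le_rfl)
  obtain ⟨g, hgz, hgj⟩ := hpair z j hzj
  refine ⟨g, fun k => ?_⟩
  by_cases hkz : z = k
  · rw [← hkz]; exact hgz
  by_cases hkj : j = k
  · rw [← hkj]; exact hgj
  obtain ⟨g', h'z, h'k⟩ := hpair z k hkz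
  obtain ⟨g'', h''j, h''k⟩ := hpair j k hkj
  have ha := hmove z hgz h'z
  have hb := hmove j hgj h''j
  have hc := hmove k h'k h''k
  set h := g⁻¹ * g' with hh
  set c := g'⁻¹ * g'' with hc'
  have hbc : g⁻¹ * g'' = h * c := by rw [hh, hc']; group
  rw [hbc] at hb
  by_cases h1 : h = 1
  · exact hback k h'k (by rw [← hh, h1]; exact one_mem _)
  by_cases c1 : c = 1
  · exfalso
    rw [c1, mul_one] at hb
    exact hj (hsame z j ⟨h, ha, hb, h1⟩)
  by_cases b1 : h * c = 1
  · exact hback k h''k (by rw [hbc, b1]; exact one_mem _)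
  have e : c = h := eq_of_triangle hchar hroot (hS z h ha).1 h1 (hS k c hc).1 c1 (hS j _ hb).1 b1
  exact hback k h'k (hsame z k ⟨h, ha, e ▸ hc, h1⟩ ha)

end CfsgLib.PSL2Sub.Binary
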