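import Cfsg.Agent.Lib.PSL2Sub.Binary.Small
import Cfsg.Agent.Lib.PSL2Sub.Binary.Positive

/-!
The subgroups with binary coset action in `PSL₂(q)`.
-/

set_option autoImplicit false
set_option linter.unusedSectionVars false

namespace CfsgLib.PSL2Sub.Binary

open Matrix CfsgLib.SL2Trace
open scoped Classical Pointwise

variable {F : Type*} [Field F] [Fintype F]

local notation "SL2" => SpecialLinearGroup (Fin 2) F
local notation "π" => CfsgLib.SL2Trace.toPSL (F := F)

theorem char_two_of_eq_pow (p : ℕ) [Fact p.Prime] [CharP F p] (h4 : 4 ≤ Fintype.card F)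
    (h : ∃ a : ℕ, Fintype.card F = 2 ^ a) : p = 2 := by
  obtain ⟨a, ha⟩ := h
  obtain ⟨n, hp, hn⟩ := FiniteField.card F p
  refine (Nat.prime_dvd_prime_iff_eq hp Nat.prime_two).mp (hp.dvd_of_dvd_pow (n := a) ?_)
  rw [← ha, hn]
  exact dvd_pow_self p n.ne_zero

theorem two_eq_zero [CharP F 2] : (2 : F) = 0 := CharTwo.two_eq_zero

theorem sylow_two_binary [CharP F 2] (P : Sylow 2 (PS F)) : IsBinary (P : Subgroup (PS F)) := by
  haveI : Fact (Nat.Prime 2) := ⟨Nat.prime_two⟩
  let S : Sylow 2 (PS F) := (isPGroup_unip (F := F) 2).toSylow (not_dvd_index_unip 2)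
  obtain ⟨g, hg⟩ := MulAction.exists_smul_eq (PS F) S P
  have : (P : Subgroup (PS F)) = (unip F).map (MulAut.conj g).toMonoidHom := by
    rw [← hg, Sylow.coe_subgroup_smul]
    rfl
  rw [this]
  exact isBinary_map_conj (isBinary_unip two_eq_zero) g

theorem no_root_of_odd [CharP F 2] {a : ℕ} (ha : Odd a) (hq : Fintype.card F = 2 ^ a) :
    ¬ ∃ u : F, u ^ 2 + u + 1 = 0 := by
  rintro ⟨u, hu⟩
  have h2 : (2 : F) = 0 := two_eq_zero
  have hu1 : u ≠ 1 := fun h => by
    subst h
    exact one_ne_zero (α := F) (by linear_combination hu - h2)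
  have hu0 : u ≠ 0 := fun h => by
    subst h
    simp at hu
  have hu3 : u ^ 3 = 1 := by linear_combination (u - 1) * hu
  have ho : orderOf u = 3 := by
    haveI : Fact (Nat.Prime 3) := ⟨Nat.prime_three⟩
    exact orderOf_eq_prime hu3 hu1
  have hd : 3 ∣ 2 ^ a - 1 := by
    rw [← ho, ← hq]
    exact orderOf_dvd_of_pow_eq_one (FiniteField.pow_card_sub_one_eq_one u hu0)
  obtain ⟨b, rfl⟩ := ha
  have h1 : 2 ^ (2 * b + 1) % 3 = 2 := by
    rw [pow_succ, pow_mul, Nat.mul_mod, Nat.pow_mod]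
    norm_num
  have := Nat.one_le_pow (2 * b + 1) 2 two_pos
  generalize 2 ^ (2 * b + 1) = N at hd h1 this
  omega

/-- A subgroup with an element of order `p` moved into the translations. -/
theorem exists_conj_up (p : ℕ) [Fact p.Prime] [CharP F p] {H : Subgroup (PS F)}
    (hb : IsBinary H) (hH : H ≠ ⊤) (hd : p ∣ Nat.card H) :
    ∃ (c : PS F) (H' : Subgroup (PS F)) (s : F),
      H' = H.map (MulAut.conj c).toMonoidHom ∧ IsBinary H' ∧ H' ≠ ⊤ ∧ s ≠ 0 ∧ π (up s) ∈ H' := by
  obtain ⟨x, hx⟩ := exists_prime_orderOf_dvd_card' (G := H) p hd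
  obtain ⟨c, s, hs, hcs⟩ := exists_conj_mem_unip p (g := (x : PS F))
    (by rw [Subgroup.orderOf_coe, hx])
  refine ⟨c⁻¹, _, s, rfl, isBinary_map_conj hb _, map_conj_ne_top _ hH, hs, ?_⟩
  rw [mem_map_conj_iff, hcs]
  simpa [mul_assoc] using x.2

theorem unipotent_sylow_case [CharP F 2] (h4 : 4 ≤ Fintype.card F) {H : Subgroup (PS F)}
    (hb : IsBinary H) (hH : H ≠ ⊤) (hd : 2 ∣ Nat.card H) :
    ∃ P : Sylow 2 (PS F), H = P := by
  haveI : Fact (Nat.Prime 2) := ⟨Nat.prime_two⟩
  have h2 : (2 : F) = 0 := two_eq_zero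
  obtain ⟨c, H', s, hH', hb', hne, hs, hmem⟩ := exists_conj_up 2 hb hH hd
  have hU := even_case h2 h4 hb' hs hmem
  have hB := le_borel_of_unip_le hU hne
  have hall : ∀ l : Fˣ, π (dg l) ∈ H' → (l : F) ^ 2 = 1 := by
    intro l hl
    have hl4 : (l : F) ^ 4 = 1 := by
      by_contra h
      exact triangular_case hb' hB hl h
    have h1 : ((l : F) ^ 2 - 1) ^ 2 = 0 := by linear_combination hl4 - ((l : F) ^ 2 - 1) * h2
    exact sub_eq_zero.mp (pow_eq_zero_iff two_ne_zero |>.mp h1)
  have heq := eq_unip_of_squares hU hB hall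
  let S : Sylow 2 (PS F) := (isPGroup_unip (F := F) 2).toSylow (not_dvd_index_unip 2)
  refine ⟨c⁻¹ • S, ?_⟩
  rw [Sylow.coe_subgroup_smul]
  show H = MulAut.conj c⁻¹ • unip F
  rw [← heq, hH', map_inv, eq_inv_smul_iff]
  rfl

theorem order_three_parity [CharP F 2] {H : Subgroup (PS F)}
    (hb : IsBinary H) (h3 : Nat.card H = 3) {a : ℕ} (hq : Fintype.card F = 2 ^ a) : Odd a := by
  by_contra hodd
  rw [Nat.not_odd_iff_even] at hodd
  obtain ⟨b, hb'⟩ := hodd
  haveI : Fact (Nat.Prime 3) := ⟨Nat.prime_three⟩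
  obtain ⟨ω, hω⟩ := exists_prime_orderOf_dvd_card' (G := Fˣ) 3 (by
    rw [Nat.card_units, Nat.card_eq_fintype_card, hq, hb', ← two_mul, pow_mul]
    exact (Nat.modEq_iff_dvd' (Nat.one_le_pow _ _ (by norm_num))).mp (by
      unfold Nat.ModEq
      rw [Nat.pow_mod]
      norm_num))
  have hω1 : ω ≠ 1 := fun h => by rw [h, orderOf_one] at hω; omega
  have hω3 : (ω : F) ^ 3 = 1 := by
    rw [← Units.val_pow_eq_pow_val, ← hω, pow_orderOf_eq_one, Units.val_one]
  have hω1' : (ω : F) ≠ 1 := fun h => hω1 (Units.ext h)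
  have hsum : (ω : F) ^ 2 + ω + 1 = 0 := by
    have : ((ω : F) - 1) * ((ω : F) ^ 2 + ω + 1) = 0 := by linear_combination hω3
    exact (mul_eq_zero.mp this).resolve_left (sub_ne_zero.mpr hω1')
  have h2 : (2 : F) = 0 := two_eq_zero
  obtain ⟨x, hx⟩ := exists_prime_orderOf_dvd_card' (G := H) 3 (by rw [h3])
  have hxo : orderOf (x : PS F) = 3 := by rw [Subgroup.orderOf_coe, hx]
  obtain ⟨L, hL⟩ := QuotientGroup.mk_surjective (x : PS F)
  have hLt : (L : Matrix (Fin 2) (Fin 2) F).trace = 1 := trace_eq_one_of_order_three h2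
    (show π L ^ 3 = 1 by
      show (QuotientGroup.mk L : PS F) ^ 3 = 1
      rw [hL, ← hxo, pow_orderOf_eq_one])
    (show π L ≠ 1 by
      show (QuotientGroup.mk L : PS F) ≠ 1
      rw [hL]; intro h; rw [h, orderOf_one] at hxo; omega)
  have hdt : (dg ω : Matrix (Fin 2) (Fin 2) F).trace = 1 := by
    simp only [dg, coe_mk2, Matrix.trace_fin_two, Matrix.of_apply, Matrix.cons_val_zero,
      Matrix.cons_val_one, Matrix.head_cons, Matrix.head_fin_const]
    rw [show ((ω⁻¹ : Fˣ) : F) = (ω : F) ^ 2 by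
      rw [Units.val_inv_eq_inv_val]
      exact inv_eq_of_mul_eq_one_right (by linear_combination hω3)]
    linear_combination hsum - h2
  obtain ⟨U, hU⟩ := isConj_of_trace_eq L (dg ω) (by
    rw [hLt, one_pow]
    intro h
    exact one_ne_zero (α := F) (by linear_combination h + 2 * h2)) (hdt.trans hLt.symm)
  set H' := H.map (MulAut.conj (π U)).toMonoidHom with hH'
  have hmem : π (dg ω) ∈ H' := by
    rw [hH', mem_map_conj_iff, hU, toPSL_conj,
      show (π U)⁻¹ * (π U * π L * (π U)⁻¹) * π U = π L by group]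
    show (QuotientGroup.mk L : PS F) ∈ H
    rw [hL]; exact x.2
  have hbor : H' ≤ borel F := by
    have hne : π (dg ω) ≠ 1 := by
      intro h
      have := congrArg (fun z => (π U)⁻¹ * z * π U) (show π (dg ω) = 1 from h)
      simp only [hU, toPSL_conj, mul_one, inv_mul_cancel] at this
      rw [show (π U)⁻¹ * (π U * π L * (π U)⁻¹) * π U = π L by group] at this
      have h' : (QuotientGroup.mk L : PS F) = 1 := this
      rw [hL] at h'
      rw [h', orderOf_one] at hxo
      omega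
    have hz : Subgroup.zpowers (π (dg ω)) ≤ H' := Subgroup.zpowers_le.mpr hmem
    have hc3 : Nat.card H' = 3 := by rw [hH', card_map_conj, h3]
    have hd : Nat.card (Subgroup.zpowers (π (dg ω))) ∣ 3 := hc3 ▸ Subgroup.card_dvd_of_le hz
    have h1 : Nat.card (Subgroup.zpowers (π (dg ω))) ≠ 1 := fun h => hne (by
      rwa [Nat.card_zpowers, orderOf_eq_one_iff] at h)
    rw [← Subgroup.eq_of_le_of_card_ge hz (by
      rw [hc3, ((Nat.dvd_prime Nat.prime_three).mp hd).resolve_left h1])]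
    exact Subgroup.zpowers_le.mpr (dg_mem_borel ω)
  refine triangular_case (isBinary_map_conj hb (π U)) hbor hmem fun h => hω1' ?_
  linear_combination h - (ω : F) * hω3

/-- A full Sylow subgroup inside, `q` odd. -/
theorem borel_case (h4 : 4 ≤ Fintype.card F) (h2 : (2 : F) ≠ 0) {H : Subgroup (PS F)}
    (hb : IsBinary H) (hH : H ≠ ⊤) (hU : unip F ≤ H) : False := by
  have hB := le_borel_of_unip_le hU hH
  by_cases h1 : ∀ l : Fˣ, π (dg l) ∈ H → (l : F) ^ 2 = 1
  · have heq := eq_unip_of_squares hU hB h1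
    refine unipotent_case h2 h4 hb hH one_ne_zero (hU (up_mem_unip 1)) fun x _ _ w hw => ?_
    have := hw 1 (by simpa using hU (up_mem_unip x))
    rw [← heq]
    simpa using this
  push Not at h1
  obtain ⟨l, hl, hl2⟩ := h1
  by_cases hl4 : (l : F) ^ 4 = 1
  swap
  · exact triangular_case hb hB hl hl4
  have hsq : (l : F) ^ 2 + 1 = 0 := by
    have : ((l : F) ^ 2 - 1) * ((l : F) ^ 2 + 1) = 0 := by linear_combination hl4
    exact (mul_eq_zero.mp this).resolve_left (sub_ne_zero.mpr hl2)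
  have hinv : ((l⁻¹ : Fˣ) : F) = -(l : F) := by
    rw [Units.val_inv_eq_inv_val]
    exact inv_eq_of_mul_eq_one_right (by linear_combination -hsq)
  have hao : orderOf (π (dg l)) = 2 := (orderOf_two_iff h2 (dg l)).mpr (by
    simp [dg, coe_mk2, Matrix.trace_fin_two]
    rw [← Units.val_inv_eq_inv_val, hinv]
    ring)
  have hinv' : π (dg l⁻¹) = π (dg l) := by
    rw [← dg_inv, toPSL_inv]
    exact inv_eq_of_mul_eq_one_left (sq_one_of_orderOf_two hao)
  have hanti : (π (anti 1))⁻¹ * π (dg l) * π (anti 1) = π (dg l) := by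
    conv_lhs => rw [← hinv', ← toPSL_inv, ← toPSL_mul, ← toPSL_mul]
    rw [show (anti (1 : Fˣ))⁻¹ * dg l⁻¹ * anti 1 = dg l by
      rw [← anti_conj_dg (1 : Fˣ) l]; group]
  have hS : fixInter H (π (dg l)) ≤ Subgroup.centralizer {π (dg l)} := by
    intro w hw
    obtain ⟨W, rfl⟩ := QuotientGroup.mk_surjective w
    have h10 := (mem_borel_iff W).mp (hB (by simpa using hw 1 (by simpa using hl)))
    have h01' := hB (hw (π (anti 1)) (by rw [hanti]; exact hl))
    have h01 : (W : Matrix (Fin 2) (Fin 2) F) 0 1 = 0 := by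
      have h := (mem_borel_iff ((anti (1 : Fˣ))⁻¹ * W * anti 1)).mp h01'
      rw [anti_inv] at h
      simp [anti, coe_mk2, Matrix.SpecialLinearGroup.coe_mul, Matrix.mul_apply,
        Fin.sum_univ_two, Matrix.vecMul, dotProduct] at h
      linear_combination h
    rw [Subgroup.mem_centralizer_singleton_iff]
    show π W * π (dg l) = π (dg l) * π W
    rw [← toPSL_mul, ← toPSL_mul]
    congr 1
    apply sl_ext
    rw [Matrix.SpecialLinearGroup.coe_mul, Matrix.SpecialLinearGroup.coe_mul, dg, coe_mk2]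
    ext i j
    fin_cases i <;> fin_cases j <;> simp [Matrix.mul_apply, Fin.sum_univ_two, h10, h01] <;> ring
  have htr : ((anti (1 : Fˣ) : SL2) : Matrix (Fin 2) (Fin 2) F).trace = 0 := by
    simp [anti, coe_mk2, Matrix.trace_fin_two]
  have hcomm : π (anti 1) * π (dg l) = π (dg l) * π (anti 1) := by
    conv_lhs => rw [← hanti]
    group
  have hmem := klein_case h2 hb (fix_le_of_one h2 hao hS) hl hao
    ((orderOf_two_iff h2 (anti 1)).mpr htr) hcomm
  have := (mem_borel_iff (anti (1 : Fˣ))).mp (hB hmem)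
  simp [anti, coe_mk2] at this

/-- An element of order `p` in the subgroup, `q` odd. -/
theorem dvd_case (p : ℕ) [Fact p.Prime] [CharP F p] (h4 : 4 ≤ Fintype.card F) (h2 : (2 : F) ≠ 0)
    {H : Subgroup (PS F)} (hb : IsBinary H) (hH : H ≠ ⊤) (hd : p ∣ Nat.card H) : False := by
  by_cases hall : ∀ g : PS F, ¬ unip F ≤ H.map (MulAut.conj g).toMonoidHom
  swap
  · push Not at hall
    obtain ⟨g, hg⟩ := hall
    exact borel_case h4 h2 (isBinary_map_conj hb g) (map_conj_ne_top g hH) hg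
  obtain ⟨c, H', s, hH', hb', hne, hs, hmem⟩ := exists_conj_up p hb hH hd
  refine unipotent_case h2 h4 hb' hne hs hmem fun x hx hxc => ?_
  obtain ⟨g, hg⟩ := hxc
  refine le_unip_of_normalized h4 (le_trans (fun y hy => ?_) (le_normalizer_fixInter H' _)) ?_
  · obtain ⟨v, rfl⟩ := mem_unip_iff.mp hy
    rw [Subgroup.mem_centralizer_singleton_iff, toPSL_up_add, toPSL_up_add, add_comm]
  · intro hle
    refine hall (g * c) fun u hu => ?_
    have := hle hu g hg
    rw [hH', mem_map_conj_iff] at this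
    rw [mem_map_conj_iff]
    simpa [mul_assoc] using this

/-- Large `q`, with an involution and no element of order `p`. -/
theorem large_case (hq : Fintype.card F % 2 = 1) (h7 : 7 ≤ Fintype.card F)
    (hne7 : Fintype.card F ≠ 7) (hne9 : Fintype.card F ≠ 9) {H : Subgroup (PS F)}
    (hb : IsBinary H) (hH : H ≠ ⊤) (hd : 2 ∣ Nat.card H) : False := by
  have h2 : (2 : F) ≠ 0 := two_ne_zero_of_card_odd hq
  haveI : IsSimpleGroup (PS F) := isSimpleGroup_PS (by omega)
  haveI : Fact (Nat.Prime 2) := ⟨Nat.prime_two⟩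
  obtain ⟨h₀, hh₀⟩ := exists_prime_orderOf_dvd_card' (G := H) 2 hd
  have hho : orderOf (h₀ : PS F) = 2 := by rw [Subgroup.orderOf_coe, hh₀]
  have hC := centralizer_coatom hq h7 hne7 hne9
  have hS : ∀ a : PS F, orderOf a = 2 → fixInter H a ≤ Subgroup.centralizer {a} := by
    intro a ha
    by_contra hle
    have hn := normal_of_le_normalizer_coatom (hC a ha).1 (le_normalizer_fixInter H a) hle
    rcases hn.eq_bot_or_eq_top with h | h
    · exact hle (h ▸ bot_le)
    · obtain ⟨g, hg⟩ := exists_conj_inv_mem h2 h₀.2 hho ha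
      refine hH (eq_top_iff.mpr fun x _ => ?_)
      have := (h ▸ Subgroup.mem_top (g * x * g⁻¹) : g * x * g⁻¹ ∈ fixInter H a) g hg
      simpa [mul_assoc] using this
  obtain ⟨a, hao, hne, hc⟩ := exists_commuting h2 hho
  have haH : a ∈ H := klein_case h2 hb hS h₀.2 hho hao hc
  have key : ∀ u ∈ H, orderOf u = 2 → Subgroup.centralizer {u} = H := fun u hu huo =>
    ((hC u huo).1.le_iff.mp (centralizer_le_subgroup h2 hb hS hu huo)).resolve_left hH |>.symm
  have h4 := card_le_four h2 hao hho hne hc (key a haH hao).ge (key _ h₀.2 hho).ge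
  have := (hC _ hho).2
  rw [key _ h₀.2 hho] at this
  omega

/-- The classification. -/
theorem binary_iff (h4 : 4 ≤ Fintype.card F) (h5 : Fintype.card F ≠ 5) {H : Subgroup (PS F)}
    (hH : H ≠ ⊤) :
    IsBinary H ↔ (H = ⊥ ∨ ((∃ a : ℕ, Fintype.card F = 2 ^ a) ∧ ∃ P : Sylow 2 (PS F), H = P) ∨
      ((∃ a : ℕ, Odd a ∧ Fintype.card F = 2 ^ a) ∧ Nat.card H = 3)) := by
  obtain ⟨p, hpF⟩ := CharP.exists F
  haveI hp : Fact p.Prime := ⟨CharP.char_is_prime F p⟩
  obtain ⟨hodd, heven, -⟩ := card_parity (F := F) p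
  obtain ⟨n, hpr, hn⟩ := FiniteField.card F p
  constructor
  · intro hb
    by_cases hbot : H = ⊥
    · exact Or.inl hbot
    have h1 : Nat.card H ≠ 1 := fun h => hbot (Subgroup.card_eq_one.mp h)
    have hpos : 0 < Nat.card H := Nat.card_pos
    by_cases hd : 2 ∣ Nat.card H
    · by_cases hp2 : p = 2
      · subst hp2
        exact Or.inr (Or.inl ⟨⟨n, hn⟩, unipotent_sylow_case h4 hb hH hd⟩)
      · exfalso
        obtain ⟨hq, -⟩ := hodd hp2
        have h2 : (2 : F) ≠ 0 := two_ne_zero_of_card_odd hq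
        by_cases hpd : p ∣ Nat.card H
        · exact dvd_case p h4 h2 hb hH hpd
        by_cases h79 : Fintype.card F = 7 ∨ Fintype.card F = 9
        · exact small_false h79 p hb hpd hd
        · push Not at h79
          exact large_case hq (by omega) h79.1 h79.2 hb hH hd
    · by_cases hpd : p ∣ Nat.card H
      · by_cases hp2 : p = 2
        · exact absurd (hp2 ▸ hpd) hd
        · exact (dvd_case p h4 (two_ne_zero_of_card_odd (hodd hp2).1) hb hH hpd).elim
      haveI := cyclic_or_dvd p hd hpd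
      obtain ⟨hp2, h3⟩ := cyclic_case p hb (Nat.odd_iff.mpr (by omega)) (by omega) hpd
      subst hp2
      exact Or.inr (Or.inr ⟨⟨n, order_three_parity hb h3 hn, hn⟩, h3⟩)
  · rintro (rfl | ⟨hq, P, rfl⟩ | ⟨⟨a, ha, hq⟩, h3⟩)
    · exact isBinary_bot
    · obtain rfl := char_two_of_eq_pow p h4 hq
      exact sylow_two_binary P
    · obtain rfl := char_two_of_eq_pow p h4 ⟨a, hq⟩
      exact isBinary_order_three two_eq_zero (no_root_of_odd ha hq) h3

end CfsgLib.PSL2Sub.Binary
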