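import Mathlib

/-!
Binary coset actions: a criterion, conjugation, and the subgroup `fixInter`.
-/

set_option autoImplicit false
set_option linter.unusedSectionVars false

namespace CfsgLib.PSL2Sub.Binary

variable {G : Type*} [Group G]

/-- The action of `G` on the cosets of `H` has relational complexity two. -/
def IsBinary (H : Subgroup G) : Prop :=
  ∀ (n : ℕ) (I J : Fin n → G ⧸ H), 2 ≤ n →
    (∀ i j : Fin n, i ≠ j → ∃ g : G, g • I i = J i ∧ g • I j = J j) → ∃ g : G, ∀ i, g • I i = J i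

theorem smul_mk_eq_iff {H : Subgroup G} (a g g' : G) :
    a • (QuotientGroup.mk g : G ⧸ H) = QuotientGroup.mk g' ↔ g'⁻¹ * a * g ∈ H := by
  rw [MulAction.Quotient.smul_mk, eq_comm, QuotientGroup.eq, smul_eq_mul, mul_assoc]

theorem smul_self_iff {H : Subgroup G} (a g : G) :
    a • (QuotientGroup.mk g : G ⧸ H) = QuotientGroup.mk g ↔ g⁻¹ * a * g ∈ H :=
  smul_mk_eq_iff a g g

/-- The intersection of the conjugates of `H` containing `a`. -/
def fixInter (H : Subgroup G) (a : G) : Subgroup G where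
  carrier := {w | ∀ g : G, g⁻¹ * a * g ∈ H → g⁻¹ * w * g ∈ H}
  one_mem' g _ := by simp
  mul_mem' {x y} hx hy g hg := by
    have := H.mul_mem (hx g hg) (hy g hg)
    simpa [mul_assoc] using this
  inv_mem' {x} hx g hg := by
    have := H.inv_mem (hx g hg)
    simpa [mul_assoc] using this

theorem mem_fixInter {H : Subgroup G} {a w : G} :
    w ∈ fixInter H a ↔ ∀ g : G, g⁻¹ * a * g ∈ H → g⁻¹ * w * g ∈ H := Iff.rfl

theorem self_mem_fixInter (H : Subgroup G) (a : G) : a ∈ fixInter H a := fun _ hg => hg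

theorem conj_mem_fixInter {H : Subgroup G} {a w : G} (z : G) (hw : w ∈ fixInter H a) :
    z * w * z⁻¹ ∈ fixInter H (z * a * z⁻¹) := by
  intro g hg
  have := hw (z⁻¹ * g) (by simpa [mul_assoc] using hg)
  simpa [mul_assoc] using this

theorem le_normalizer_fixInter (H : Subgroup G) (a : G) :
    Subgroup.centralizer {a} ≤ Subgroup.normalizer (fixInter H a : Set G) := by
  intro c hc
  have hca := Subgroup.mem_centralizer_singleton_iff.mp hc
  have key : ∀ z : G, z * a = a * z → ∀ w ∈ fixInter H a, z * w * z⁻¹ ∈ fixInter H a := by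
    intro z hz w hw
    have := conj_mem_fixInter z hw
    rwa [hz, mul_inv_cancel_right] at this
  rw [Subgroup.mem_normalizer_iff]
  intro w
  refine ⟨key c hca w, fun h => ?_⟩
  have := key c⁻¹ ((show Commute c a from hca).inv_left.eq) _ h
  simpa [mul_assoc] using this

variable [Finite G]

/-- The triangle criterion. -/
theorem exists_common_of_binary {H : Subgroup G} (hb : IsBinary H) {a b : G} (hba : b * a ∈ H)
    (A B : Set G) (hA : ∀ g ∈ A, g⁻¹ * a * g ∈ H) (hB : ∀ g ∈ B, g⁻¹ * b * g ∈ H) :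
    ∃ w : G, (∀ g ∈ A, g⁻¹ * w * g ∈ H) ∧ (∀ g ∈ B, g⁻¹ * w * g ∈ H) ∧ a⁻¹ * w ∈ H := by
  classical
  haveI := Fintype.ofFinite G
  let ι := Option (Option (↥A ⊕ ↥B))
  let e := Fintype.equivFin ι
  let P : ι → G ⧸ H := fun x => match x with
    | none => QuotientGroup.mk 1
    | some none => QuotientGroup.mk 1
    | some (some (Sum.inl g)) => QuotientGroup.mk g.1
    | some (some (Sum.inr g)) => QuotientGroup.mk g.1
  let Q : ι → G ⧸ H := fun x => match x with
    | none => QuotientGroup.mk a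
    | some none => QuotientGroup.mk a
    | some (some (Sum.inl g)) => QuotientGroup.mk g.1
    | some (some (Sum.inr g)) => QuotientGroup.mk g.1
  have ha1 : a • (QuotientGroup.mk 1 : G ⧸ H) = QuotientGroup.mk a := by
    rw [smul_mk_eq_iff]; simp
  have hb1 : b⁻¹ • (QuotientGroup.mk 1 : G ⧸ H) = QuotientGroup.mk a := by
    rw [smul_mk_eq_iff]
    simpa [mul_assoc] using H.inv_mem hba
  have hfA : ∀ g ∈ A, a • (QuotientGroup.mk g : G ⧸ H) = QuotientGroup.mk g := fun g hg =>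
    (smul_self_iff a g).mpr (hA g hg)
  have hfB : ∀ g ∈ B, b⁻¹ • (QuotientGroup.mk g : G ⧸ H) = QuotientGroup.mk g := fun g hg => by
    rw [inv_smul_eq_iff, eq_comm, smul_self_iff]
    exact hB g hg
  have h2 : 2 ≤ Fintype.card ι := by simp [ι]
  have hpair : ∀ x y : ι, ∃ g : G, g • P x = Q x ∧ g • P y = Q y := by
    rintro (_ | _ | ⟨g, hg⟩ | ⟨g, hg⟩) (_ | _ | ⟨g', hg'⟩ | ⟨g', hg'⟩)
    all_goals first
      | exact ⟨1, one_smul _ _, one_smul _ _⟩
      | exact ⟨a, ha1, ha1⟩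
      | exact ⟨a, ha1, hfA _ hg'⟩
      | exact ⟨a, hfA _ hg, ha1⟩
      | exact ⟨b⁻¹, hb1, hfB _ hg'⟩
      | exact ⟨b⁻¹, hfB _ hg, hb1⟩
  obtain ⟨w, hw⟩ := hb (Fintype.card ι) (P ∘ e.symm) (Q ∘ e.symm) h2
    (fun i j _ => hpair (e.symm i) (e.symm j))
  have hw' : ∀ x : ι, w • P x = Q x := fun x => by
    have := hw (e x)
    simpa using this
  refine ⟨w, fun g hg => ?_, fun g hg => ?_, ?_⟩
  · exact (smul_self_iff w g).mp (hw' (some (some (Sum.inl ⟨g, hg⟩))))
  · exact (smul_self_iff w g).mp (hw' (some (some (Sum.inr ⟨g, hg⟩))))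
  · have h := (smul_mk_eq_iff w 1 a).mp (hw' none)
    rwa [mul_one] at h

theorem exists_mem_fixInter_of_binary {H : Subgroup G} (hb : IsBinary H) {a b : G}
    (hba : b * a ∈ H) :
    ∃ w : G, w ∈ fixInter H a ∧ w ∈ fixInter H b ∧ a⁻¹ * w ∈ H := by
  obtain ⟨w, h1, h2, h3⟩ := exists_common_of_binary hb hba {g | g⁻¹ * a * g ∈ H}
    {g | g⁻¹ * b * g ∈ H} (fun _ h => h) fun _ h => h
  exact ⟨w, h1, h2, h3⟩

omit [Finite G] in
/-- Conjugate subgroups give equivalent actions. -/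
theorem isBinary_map_conj {H : Subgroup G} (hb : IsBinary H) (c : G) :
    IsBinary (H.map (MulAut.conj c).toMonoidHom) := by
  set H' := H.map (MulAut.conj c).toMonoidHom with hH'
  have hmem : ∀ x, x ∈ H' ↔ c⁻¹ * x * c ∈ H := fun x => by
    rw [hH']
    constructor
    · rintro ⟨y, hy, rfl⟩
      simpa [mul_assoc] using hy
    · intro h
      exact ⟨_, h, by simp [mul_assoc]⟩
  let ψ : G ⧸ H' → G ⧸ H := Quotient.lift (fun g => (QuotientGroup.mk (g * c) : G ⧸ H))
    fun g g' h => by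
      have h' : g⁻¹ * g' ∈ H' := QuotientGroup.leftRel_apply.mp h
      rw [QuotientGroup.eq]
      simpa [mul_assoc] using (hmem _).mp h'
  have hψ : ∀ g : G, ψ (QuotientGroup.mk g) = QuotientGroup.mk (g * c) := fun g => rfl
  have hinj : Function.Injective ψ := by
    intro x y h
    obtain ⟨x, rfl⟩ := QuotientGroup.mk_surjective x
    obtain ⟨y, rfl⟩ := QuotientGroup.mk_surjective y
    rw [hψ, hψ, QuotientGroup.eq] at h
    rw [QuotientGroup.eq, hmem]
    simpa [mul_assoc] using h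
  have hsmul : ∀ (g : G) x, ψ (g • x) = g • ψ x := by
    intro g x
    obtain ⟨x, rfl⟩ := QuotientGroup.mk_surjective x
    rw [MulAction.Quotient.smul_mk, hψ, hψ, MulAction.Quotient.smul_mk, smul_eq_mul, smul_eq_mul,
      mul_assoc]
  intro n I J hn hpair
  obtain ⟨g, hg⟩ := hb n (ψ ∘ I) (ψ ∘ J) hn fun i j hij => by
    obtain ⟨g, h1, h2⟩ := hpair i j hij
    exact ⟨g, by rw [Function.comp, ← hsmul, h1]; rfl, by rw [Function.comp, ← hsmul, h2]; rfl⟩
  exact ⟨g, fun i => hinj (by rw [hsmul]; exact hg i)⟩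

omit [Finite G] in
theorem isBinary_bot : IsBinary (⊥ : Subgroup G) := by
  intro n I J hn hpair
  have h01 : (⟨0, by omega⟩ : Fin n) ≠ ⟨1, by omega⟩ := by simp
  obtain ⟨g, hg, -⟩ := hpair _ _ h01
  refine ⟨g, fun i => ?_⟩
  by_cases hi : (⟨0, by omega⟩ : Fin n) = i
  · rw [← hi]; exact hg
  obtain ⟨g', h0, h1⟩ := hpair _ _ hi
  have : g = g' := by
    obtain ⟨x, hx⟩ := QuotientGroup.mk_surjective (I ⟨0, by omega⟩)
    rw [← hg, ← hx, MulAction.Quotient.smul_mk, MulAction.Quotient.smul_mk, QuotientGroup.eq,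
      Subgroup.mem_bot, inv_mul_eq_one, smul_eq_mul, smul_eq_mul] at h0
    exact (mul_right_cancel h0).symm
  rw [this]
  exact h1

end CfsgLib.PSL2Sub.Binary
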