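import Cfsg.Agent.Lib.PSL2Sub.Binary.NonBinary
import Cfsg.Agent.Lib.PSL2Sub.MaxClassify
import Cfsg.Agent.Lib.PSL2Sub.Maximal

/-!
General facts used to assemble the classification of binary coset actions of `PSL₂(q)`.
-/

set_option autoImplicit false
set_option linter.unusedSectionVars false

namespace CfsgLib.PSL2Sub.Binary

open Matrix CfsgLib.SL2Trace
open scoped Classical

section Groups

variable {G : Type*} [Group G]

theorem mem_map_conj_iff {H : Subgroup G} {c x : G} :
    x ∈ H.map (MulAut.conj c).toMonoidHom ↔ c⁻¹ * x * c ∈ H := by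
  constructor
  · rintro ⟨y, hy, rfl⟩
    simpa [mul_assoc] using hy
  · intro h
    exact ⟨_, h, by simp [mul_assoc]⟩

theorem mem_normalizer_of_conj_mem [Finite G] {H : Subgroup G} {g : G}
    (h : ∀ x ∈ H, g * x * g⁻¹ ∈ H) : g ∈ Subgroup.normalizer (H : Set G) := by
  have he : H.map (MulAut.conj g).toMonoidHom = H := by
    refine Subgroup.eq_of_le_of_card_ge ?_ (card_map_conj g H).ge
    rintro _ ⟨y, hy, rfl⟩
    exact h y hy
  rw [Subgroup.mem_normalizer_iff]
  refine fun x => ⟨h x, fun hx => ?_⟩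
  rw [← he, mem_map_conj_iff] at hx
  simpa [mul_assoc] using hx

theorem conj_mem_of_mem_normalizer {H : Subgroup G} {g x : G}
    (hg : g ∈ Subgroup.normalizer (H : Set G)) (hx : x ∈ H) :
    g * x * g⁻¹ ∈ H ∧ g⁻¹ * x * g ∈ H := by
  refine ⟨(Subgroup.mem_normalizer_iff.mp hg x).mp hx, ?_⟩
  rw [Subgroup.mem_normalizer_iff.mp hg]
  simpa [mul_assoc] using hx

/-- A `p`-subgroup is conjugate into a Sylow subgroup. -/
theorem exists_conj_le [Finite G] {p : ℕ} [Fact p.Prime] {U : Subgroup G} (hU : IsPGroup p U)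
    (hi : ¬ p ∣ U.index) {K : Subgroup G} (hK : IsPGroup p K) :
    ∃ g : G, ∀ x ∈ K, g⁻¹ * x * g ∈ U := by
  obtain ⟨Q, hQ⟩ := hK.exists_le_sylow
  obtain ⟨g, hg⟩ := MulAction.exists_smul_eq G (hU.toSylow hi) Q
  refine ⟨g, fun x hx => ?_⟩
  have h := hQ hx
  rw [← hg, Sylow.coe_subgroup_smul, Subgroup.mem_pointwise_smul_iff_inv_smul_mem] at h
  simpa [MulAut.smul_def] using h

theorem eq_or_of_index_two [Finite G] {S H : Subgroup G} (hle : S ≤ H)
    (h : Nat.card H = 2 * Nat.card S) : H ≤ Subgroup.normalizer (S : Set G) := by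
  have hi : (S.subgroupOf H).index = 2 := by
    have := (S.subgroupOf H).card_mul_index
    rw [Nat.card_congr (Subgroup.subgroupOfEquivOfLe hle).toEquiv, h, mul_comm 2] at this
    exact Nat.eq_of_mul_eq_mul_left Nat.card_pos this
  haveI := Subgroup.normal_of_index_eq_two hi
  exact Subgroup.le_normalizer_of_normal_subgroupOf hle

theorem normal_of_le_normalizer_coatom {S C : Subgroup G} (hC : IsCoatom C)
    (hN : C ≤ Subgroup.normalizer (S : Set G)) (hS : ¬ S ≤ C) : S.Normal :=
  Subgroup.normalizer_eq_top_iff.mp ((hC.le_iff.mp hN).resolve_right fun h =>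
    hS (h ▸ Subgroup.le_normalizer))

end Groups

variable {F : Type*} [Field F]

local notation "SL2" => SpecialLinearGroup (Fin 2) F
local notation "π" => CfsgLib.SL2Trace.toPSL (F := F)

theorem exists_dg_up_of_mem_borel {g : PS F} (hg : g ∈ borel F) :
    ∃ (l : Fˣ) (x : F), g = π (dg l) * π (up x) := by
  obtain ⟨M, rfl⟩ := QuotientGroup.mk_surjective g
  obtain ⟨l, x, rfl⟩ := eq_dg_mul_up M ((mem_borel_iff M).mp hg)
  exact ⟨l, x, rfl⟩

theorem dg_mem_borel (l : Fˣ) : π (dg l) ∈ borel F := by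
  rw [mem_borel_iff]
  simp [dg, coe_mk2]

theorem toPSL_dg_eq_one {l : Fˣ} (h : (l : F) ^ 2 = 1) : π (dg l) = 1 := by
  refine (QuotientGroup.eq_one_iff _).mpr (mem_center_iff_entries.mpr ?_)
  simp only [dg, coe_mk2]
  refine ⟨by simp, by simp, ?_⟩
  show (l : F) = ((l⁻¹ : Fˣ) : F)
  rw [Units.val_inv_eq_inv_val]
  exact eq_inv_of_mul_eq_one_left (by rw [← pow_two]; exact h)

/-- Dropping the diagonal part. -/
theorem eq_unip_of_squares {H : Subgroup (PS F)} (hU : unip F ≤ H) (hB : H ≤ borel F)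
    (hl : ∀ l : Fˣ, π (dg l) ∈ H → (l : F) ^ 2 = 1) : H = unip F := by
  refine le_antisymm (fun g hg => ?_) hU
  obtain ⟨l, x, rfl⟩ := exists_dg_up_of_mem_borel (hB hg)
  have hx : π (up x) ∈ H := hU (up_mem_unip x)
  have := toPSL_dg_eq_one (hl l (by simpa [mul_assoc] using mul_mem hg (inv_mem hx)))
  rw [this, one_mul]
  exact up_mem_unip x

variable [Fintype F]

theorem not_dvd_index_unip (p : ℕ) [Fact p.Prime] [CharP F p] : ¬ p ∣ (unip F).index := by
  intro h
  have hmul := (unip F).card_mul_index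
  rw [card_unip, Nat.card_eq_fintype_card] at hmul
  have hG := gcd_mul_card_PS (F := F)
  rw [← hmul] at hG
  have hi : Nat.gcd 2 (Fintype.card F - 1) * (unip F).index = Fintype.card F ^ 2 - 1 :=
    Nat.eq_of_mul_eq_mul_left Fintype.card_pos (by rw [← hG]; ring)
  obtain ⟨n, -, hn⟩ := FiniteField.card F p
  have hq : p ∣ Fintype.card F ^ 2 := by
    rw [hn, ← pow_mul]
    exact dvd_pow_self p (Nat.mul_ne_zero n.ne_zero two_ne_zero)
  have h1 := Nat.dvd_sub hq (hi ▸ dvd_mul_of_dvd_right h _)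
  rw [Nat.sub_sub_self (Nat.one_le_pow _ _ Fintype.card_pos), Nat.dvd_one] at h1
  exact (Fact.out : p.Prime).one_lt.ne' h1

theorem isPGroup_unip (p : ℕ) [Fact p.Prime] [CharP F p] : IsPGroup p (unip F) := by
  obtain ⟨n, -, hn⟩ := FiniteField.card F p
  exact IsPGroup.of_card (n := n) (by rw [card_unip, Nat.card_eq_fintype_card, hn])

theorem exists_conj_mem_unip (p : ℕ) [Fact p.Prime] [CharP F p] {g : PS F} (hg : orderOf g = p) :
    ∃ c : PS F, ∃ s : F, s ≠ 0 ∧ π (up s) = c⁻¹ * g * c := by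
  obtain ⟨c, hc⟩ := exists_conj_le (isPGroup_unip (F := F) p) (not_dvd_index_unip p)
    (IsPGroup.of_card (G := Subgroup.zpowers g) (n := 1) (by rw [Nat.card_zpowers, hg, pow_one]))
  obtain ⟨s, hs⟩ := mem_unip_iff.mp (hc g (Subgroup.mem_zpowers g))
  refine ⟨c, s, fun h => ?_, hs⟩
  rw [h, up_zero] at hs
  have : g = 1 := by
    calc g = c * (c⁻¹ * g * c) * c⁻¹ := by group
      _ = 1 := by rw [← hs, toPSL, QuotientGroup.mk_one]; group
  rw [this, orderOf_one] at hg
  exact (Fact.out : p.Prime).one_lt.ne hg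

/-- The alternatives left by Dickson's theorem. -/
theorem cyclic_or_dvd (p : ℕ) [Fact p.Prime] [CharP F p] {H : Subgroup (PS F)}
    (h2 : ¬ 2 ∣ Nat.card H) (hp : ¬ p ∣ Nat.card H) : IsCyclic H := by
  rcases classify_psl p H with h | ⟨k, -, -, -, ⟨e⟩⟩ | ⟨h, -⟩ | ⟨-, ⟨e⟩⟩ | ⟨-, ⟨e⟩⟩ | ⟨-, ⟨e⟩⟩ | ⟨E, hE⟩
  · exact h.1
  · exact absurd (by rw [Nat.card_congr e.toEquiv, DihedralGroup.nat_card]; exact dvd_mul_right 2 k) h2
  · exact absurd h hp
  · exact absurd (by rw [Nat.card_congr e.toEquiv, card_alt_four]; norm_num) h2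
  · exact absurd (by rw [Nat.card_congr e.toEquiv, card_sym_four]; norm_num) h2
  · exact absurd (by rw [Nat.card_congr e.toEquiv, card_alt_five]; norm_num) h2
  · exfalso
    haveI : CharP E p := inferInstance
    obtain ⟨n, -, hn⟩ := FiniteField.card E p
    have hdvd : p ∣ Fintype.card E := hn ▸ dvd_pow_self p n.ne_zero
    rcases hE with ⟨⟨e⟩⟩ | ⟨hp2, ⟨e⟩⟩
    · exact hp (by rw [Nat.card_congr e.toEquiv, card_PG]; exact dvd_mul_of_dvd_left hdvd _)
    · refine hp ?_
      rw [Nat.card_congr e.toEquiv]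
      have hd : p ∣ Nat.gcd 2 (Fintype.card E - 1) * Nat.card (PS E) := by
        rw [gcd_mul_card_PS]; exact dvd_mul_of_dvd_left hdvd _
      refine ((Nat.Prime.dvd_mul Fact.out).mp hd).resolve_left fun h => hp2 ?_
      rw [((card_parity (F := E) p).1 hp2).2] at h
      exact (Nat.prime_dvd_prime_iff_eq Fact.out Nat.prime_two).mp h

/-- Conjugation transports the bound on the fixers of involutions. -/
theorem fix_le_of_one (h2 : (2 : F) ≠ 0) {H : Subgroup (PS F)} {t : PS F} (ht : orderOf t = 2)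
    (hS : fixInter H t ≤ Subgroup.centralizer {t}) (a : PS F) (ha : orderOf a = 2) :
    fixInter H a ≤ Subgroup.centralizer {a} := by
  intro w hw
  obtain ⟨z, hz⟩ := isConj_iff.mp (isConj_involutions h2 a t ha ht)
  have h := Subgroup.mem_centralizer_singleton_iff.mp (hS (hz ▸ conj_mem_fixInter z hw))
  rw [← hz] at h
  rw [Subgroup.mem_centralizer_singleton_iff]
  calc w * a = z⁻¹ * ((z * w * z⁻¹) * (z * a * z⁻¹)) * z := by group
    _ = z⁻¹ * ((z * a * z⁻¹) * (z * w * z⁻¹)) * z := by rw [h]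
    _ = a * w := by group

theorem exists_conj_inv_mem (h2 : (2 : F) ≠ 0) {H : Subgroup (PS F)} {h a : PS F} (hh : h ∈ H)
    (hho : orderOf h = 2) (hao : orderOf a = 2) : ∃ g : PS F, g⁻¹ * a * g ∈ H := by
  obtain ⟨c, hc⟩ := isConj_iff.mp (isConj_involutions h2 h a hho hao)
  exact ⟨c, by rw [← hc]; simpa [mul_assoc] using hh⟩

/-- Another involution commuting with a given one. -/
theorem exists_commuting (h2 : (2 : F) ≠ 0) {h : PS F} (hho : orderOf h = 2) :
    ∃ a : PS F, orderOf a = 2 ∧ a ≠ h ∧ a * h = h * a := by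
  obtain ⟨X, rfl⟩ := QuotientGroup.mk_surjective h
  have hX := (orderOf_two_iff h2 X).mp hho
  have hreg := trace_sq_ne_four h2 hX
  obtain ⟨U, hU⟩ := exists_inverter hreg
  obtain ⟨hU1, hU2⟩ := inverter_facts h2 hX hU
  refine ⟨π U, (orderOf_two_iff h2 U).mpr hU1, fun e => ?_, hU2.eq⟩
  have key : U * X = X * U := by
    rcases mk_eq_cases (show π U = π X from e) with h | h
    · rw [h]
    · apply sl_ext
      rw [Matrix.SpecialLinearGroup.coe_mul, Matrix.SpecialLinearGroup.coe_mul, h, mul_neg, neg_mul]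
  rw [key, mul_inv_cancel_right] at hU
  have hneg : (X : Matrix (Fin 2) (Fin 2) F) * X = -1 := sq_eq_neg_one hX
  have hone : (X : Matrix (Fin 2) (Fin 2) F) * X = 1 := by
    rw [← Matrix.SpecialLinearGroup.coe_mul]
    nth_rw 1 [hU]
    rw [inv_mul_cancel, Matrix.SpecialLinearGroup.coe_one]
  have := congrFun (congrFun (hone.symm.trans hneg) 0) 0
  simp at this
  exact h2 (by linear_combination this)

/-- A group centralising two commuting involutions is small. -/
theorem card_le_four (h2 : (2 : F) ≠ 0) {H : Subgroup (PS F)} {a h : PS F} (hao : orderOf a = 2)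
    (hho : orderOf h = 2) (hne : a ≠ h) (hc : a * h = h * a)
    (hA : H ≤ Subgroup.centralizer {a}) (hB : H ≤ Subgroup.centralizer {h}) : Nat.card H ≤ 4 := by
  have hsub : (H : Set (PS F)) ⊆ {1, a, h, a * h} := fun x hx => by
    simpa [Set.mem_insert_iff] using mem_four_group h2 hao hho hne hc
      (Subgroup.mem_centralizer_singleton_iff.mp (hA hx))
      (Subgroup.mem_centralizer_singleton_iff.mp (hB hx))
  calc Nat.card H = (H : Set (PS F)).ncard := Nat.card_coe_set_eq _
    _ ≤ ({1, a, h, a * h} : Set (PS F)).ncard := Set.ncard_le_ncard hsub (Set.toFinite _)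
    _ ≤ 4 := by
      refine le_trans (Set.ncard_insert_le _ _) ?_
      refine Nat.succ_le_succ (le_trans (Set.ncard_insert_le _ _) ?_)
      refine Nat.succ_le_succ (le_trans (Set.ncard_insert_le _ _) ?_)
      simp

/-- When every commuting involution is swallowed, the centralisers lie in `H`. -/
theorem centralizer_le_subgroup (h2 : (2 : F) ≠ 0) {H : Subgroup (PS F)} (hb : IsBinary H)
    (hS : ∀ a : PS F, orderOf a = 2 → fixInter H a ≤ Subgroup.centralizer {a}) {h : PS F}
    (hh : h ∈ H) (hho : orderOf h = 2) : Subgroup.centralizer {h} ≤ H :=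
  centralizer_le_of_involutions h2 hho fun _ ha hc => klein_case h2 hb hS hh hho ha hc

/-- All centralisers of involutions are maximal when `q` is large. -/
theorem centralizer_coatom (hq : Fintype.card F % 2 = 1) (h7 : 7 ≤ Fintype.card F)
    (hne7 : Fintype.card F ≠ 7) (hne9 : Fintype.card F ≠ 9) (a : PS F) (ha : orderOf a = 2) :
    IsCoatom (Subgroup.centralizer {a} : Subgroup (PS F)) ∧
      4 < Nat.card (Subgroup.centralizer {a} : Subgroup (PS F)) := by
  have h2 : (2 : F) ≠ 0 := two_ne_zero_of_card_odd hq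
  have hd : Nat.gcd 2 (Fintype.card F - 1) = 2 :=
    Nat.gcd_eq_left (Nat.dvd_of_mod_eq_zero (by omega))
  obtain ⟨M, k, hM, ⟨e⟩, hk2, hk⟩ : ∃ (M : Subgroup (PS F)) (k : ℕ), IsCoatom M ∧
      Nonempty (M ≃* DihedralGroup k) ∧ 2 ∣ k ∧ 4 ≤ k := by
    rcases (show Fintype.card F % 4 = 1 ∨ Fintype.card F % 4 = 3 by omega) with h | h
    · obtain ⟨M, hM, hMe⟩ := exists_maximal_dihedral_minus (F := F) (by
        simp only [Finset.mem_insert, Finset.mem_singleton]; omega)
      exact ⟨M, _, hM, hMe, by rw [hd]; omega, by rw [hd]; omega⟩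
    · obtain ⟨M, hM, hMe⟩ := exists_maximal_dihedral_plus (F := F) (by
        simp only [Finset.mem_insert, Finset.mem_singleton]; omega)
      exact ⟨M, _, hM, hMe, by rw [hd]; omega, by rw [hd]; omega⟩
  obtain ⟨m, rfl⟩ := hk2
  haveI : NeZero (2 * m) := ⟨by omega⟩
  haveI : IsSimpleGroup (PS F) := isSimpleGroup_PS (by omega)
  set c : PS F := (e.symm (DihedralGroup.r (m : ZMod (2 * m))) : PS F) with hc
  have hco : orderOf c = 2 := by
    rw [hc, Subgroup.orderOf_coe, MulEquiv.orderOf_eq, DihedralGroup.orderOf_r,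
      ZMod.val_natCast, Nat.mod_eq_of_lt (by omega), Nat.gcd_mul_left_left,
      Nat.mul_div_cancel _ (by omega)]
  have hcentral : ∀ x : DihedralGroup (2 * m),
      x * DihedralGroup.r (m : ZMod (2 * m)) = DihedralGroup.r (m : ZMod (2 * m)) * x := by
    rintro (i | i)
    · rw [DihedralGroup.r_mul_r, DihedralGroup.r_mul_r, add_comm]
    · rw [DihedralGroup.sr_mul_r, DihedralGroup.r_mul_sr]
      congr 1
      rw [eq_sub_iff_add_eq, add_assoc]
      have h0 : ((2 * m : ℕ) : ZMod (2 * m)) = 0 := ZMod.natCast_self _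
      rw [← two_mul]
      push_cast at h0
      rw [h0, add_zero]
  have hle : M ≤ Subgroup.centralizer {c} := fun x hx => by
    rw [Subgroup.mem_centralizer_singleton_iff]
    have := congrArg e.symm (hcentral (e ⟨x, hx⟩))
    rw [map_mul, map_mul, e.symm_apply_apply] at this
    exact congrArg Subtype.val this
  have hne : (Subgroup.centralizer {c} : Subgroup (PS F)) ≠ ⊤ := fun h => by
    rw [Subgroup.centralizer_eq_top_iff_subset] at h
    have hc1 : c ∈ Subgroup.center (PS F) := h (Set.mem_singleton c)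
    rw [center_PS_eq_bot (by omega), Subgroup.mem_bot] at hc1
    rw [hc1, orderOf_one] at hco
    omega
  have hCc : Subgroup.centralizer {c} = M := (hM.le_iff.mp hle).resolve_left hne
  obtain ⟨z, hz⟩ := isConj_iff.mp (isConj_involutions h2 c a hco ha)
  have hCa : (Subgroup.centralizer {a} : Subgroup (PS F)) = M.map (MulAut.conj z).toMonoidHom := by
    rw [← hCc]
    ext x
    rw [mem_map_conj_iff, Subgroup.mem_centralizer_singleton_iff,
      Subgroup.mem_centralizer_singleton_iff, ← hz]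
    constructor
    · intro h
      calc z⁻¹ * x * z * c = z⁻¹ * (x * (z * c * z⁻¹)) * z := by group
        _ = z⁻¹ * ((z * c * z⁻¹) * x) * z := by rw [h]
        _ = c * (z⁻¹ * x * z) := by group
    · intro h
      calc x * (z * c * z⁻¹) = z * (z⁻¹ * x * z * c) * z⁻¹ := by group
        _ = z * (c * (z⁻¹ * x * z)) * z⁻¹ := by rw [h]
        _ = z * c * z⁻¹ * x := by group
  rw [hCa, card_map_conj]
  refine ⟨((MulEquiv.mapSubgroup (MulAut.conj z : PS F ≃* PS F)).isCoatom_iff M).mpr hM, ?_⟩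
  rw [Nat.card_congr e.toEquiv, DihedralGroup.nat_card]
  omega

end CfsgLib.PSL2Sub.Binary
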