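import Cfsg.Agent.Lib.PSL2Sub.Binary.Basic
import Cfsg.Agent.Lib.PSL2Sub.MaxTypes
import Cfsg.Agent.Lib.PSL2Sub.Existence
import Cfsg.Agent.Lib.SL2Trace.Tori
import Cfsg.Agent.Lib.PSL2Sub.Klein

/-!
Triangular matrices and tori in `PSL₂`, for the study of binary coset actions.
-/

set_option autoImplicit false
set_option linter.unusedSectionVars false

namespace CfsgLib.PSL2Sub.Binary

open Matrix CfsgLib.SL2Trace
open scoped Classical

variable {F : Type*} [Field F]

local notation "SL2" => SpecialLinearGroup (Fin 2) F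

theorem sl_ext {M N : SL2} (h : (M : Matrix (Fin 2) (Fin 2) F) = (N : Matrix (Fin 2) (Fin 2) F)) :
    M = N :=
  Subtype.ext h

/-- An upper unitriangular matrix. -/
def up (x : F) : SL2 := mk2 1 x 0 1 (by ring)

/-- A lower unitriangular matrix. -/
def lo (x : F) : SL2 := mk2 1 0 x 1 (by ring)

/-- A diagonal matrix of determinant one. -/
def dg (l : Fˣ) : SL2 := mk2 (l : F) 0 0 ((l⁻¹ : Fˣ) : F) (by simp)

/-- An antidiagonal matrix. -/
def anti (c : Fˣ) : SL2 := mk2 0 (-((c⁻¹ : Fˣ) : F)) (c : F) 0 (by simp)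

theorem up_mul (x y : F) : up x * up y = up (x + y) := by
  apply sl_ext
  rw [Matrix.SpecialLinearGroup.coe_mul, up, up, up, coe_mk2, coe_mk2, coe_mk2]
  ext i j
  fin_cases i <;> fin_cases j <;> simp [Matrix.mul_apply, Fin.sum_univ_two, add_comm]

theorem up_zero : up (0 : F) = 1 := by
  apply sl_ext
  rw [up, coe_mk2, Matrix.SpecialLinearGroup.coe_one, Matrix.one_fin_two]

theorem up_inv (x : F) : (up x)⁻¹ = up (-x) :=
  inv_eq_of_mul_eq_one_right (by rw [up_mul, add_neg_cancel, up_zero])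

theorem lo_mul (x y : F) : lo x * lo y = lo (x + y) := by
  apply sl_ext
  rw [Matrix.SpecialLinearGroup.coe_mul, lo, lo, lo, coe_mk2, coe_mk2, coe_mk2]
  ext i j
  fin_cases i <;> fin_cases j <;> simp [Matrix.mul_apply, Fin.sum_univ_two]

theorem lo_zero : lo (0 : F) = 1 := by
  apply sl_ext
  rw [lo, coe_mk2, Matrix.SpecialLinearGroup.coe_one, Matrix.one_fin_two]

theorem lo_inv (x : F) : (lo x)⁻¹ = lo (-x) :=
  inv_eq_of_mul_eq_one_right (by rw [lo_mul, add_neg_cancel, lo_zero])

theorem dg_mul (l m : Fˣ) : dg (l * m) = dg l * dg m := by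
  apply sl_ext
  rw [Matrix.SpecialLinearGroup.coe_mul, dg, dg, dg, coe_mk2, coe_mk2, coe_mk2]
  ext i j
  fin_cases i <;> fin_cases j <;> simp [Matrix.mul_apply, Fin.sum_univ_two, mul_comm]

theorem dg_one : dg (1 : Fˣ) = 1 := by
  apply sl_ext
  rw [dg, coe_mk2, Matrix.SpecialLinearGroup.coe_one, Matrix.one_fin_two]
  simp

theorem dg_inv (l : Fˣ) : (dg l)⁻¹ = dg l⁻¹ :=
  inv_eq_of_mul_eq_one_right (by rw [← dg_mul, mul_inv_cancel, dg_one])

theorem anti_inv (c : Fˣ) : (anti c)⁻¹ = anti (-c) := by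
  refine inv_eq_of_mul_eq_one_right ?_
  apply sl_ext
  rw [Matrix.SpecialLinearGroup.coe_mul, anti, anti, coe_mk2, coe_mk2, Matrix.SpecialLinearGroup.coe_one]
  ext i j
  fin_cases i <;> fin_cases j <;> simp [Matrix.mul_apply, Fin.sum_univ_two]

theorem anti_conj_up (c : Fˣ) (x : F) :
    anti c * up x * (anti c)⁻¹ = lo (-(c : F) ^ 2 * x) := by
  rw [anti_inv]
  apply sl_ext
  rw [Matrix.SpecialLinearGroup.coe_mul, Matrix.SpecialLinearGroup.coe_mul, anti, anti, up, lo, coe_mk2, coe_mk2,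
    coe_mk2, coe_mk2]
  ext i j
  fin_cases i <;> fin_cases j <;> simp [Matrix.mul_apply, Fin.sum_univ_two] <;> ring

theorem anti_conj_dg (c l : Fˣ) : anti c * dg l * (anti c)⁻¹ = dg l⁻¹ := by
  rw [anti_inv]
  apply sl_ext
  rw [Matrix.SpecialLinearGroup.coe_mul, Matrix.SpecialLinearGroup.coe_mul, anti, anti, dg, dg, coe_mk2, coe_mk2,
    coe_mk2, coe_mk2]
  ext i j
  fin_cases i <;> fin_cases j <;> simp [Matrix.mul_apply, Fin.sum_univ_two] <;> field_simp

theorem dg_conj_up (l : Fˣ) (x : F) : dg l * up x * (dg l)⁻¹ = up ((l : F) ^ 2 * x) := by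
  rw [dg_inv]
  apply sl_ext
  rw [Matrix.SpecialLinearGroup.coe_mul, Matrix.SpecialLinearGroup.coe_mul, dg, dg, up, up, coe_mk2, coe_mk2,
    coe_mk2, coe_mk2]
  ext i j
  fin_cases i <;> fin_cases j <;> simp [Matrix.mul_apply, Fin.sum_univ_two] <;> ring

theorem eq_dg_mul_up (M : SL2) (h : (M : Matrix (Fin 2) (Fin 2) F) 1 0 = 0) :
    ∃ (l : Fˣ) (x : F), M = dg l * up x := by
  have hd := det_coe M
  rw [h, mul_zero, sub_zero] at hd
  have hl : (M : Matrix (Fin 2) (Fin 2) F) 0 0 ≠ 0 := fun h0 => by simp [h0] at hd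
  refine ⟨Units.mk0 _ hl, (M : Matrix (Fin 2) (Fin 2) F) 0 1 / (M : Matrix (Fin 2) (Fin 2) F) 0 0, ?_⟩
  apply sl_ext
  rw [Matrix.SpecialLinearGroup.coe_mul, dg, up, coe_mk2, coe_mk2]
  ext i j
  fin_cases i <;> fin_cases j <;>
    simp [Matrix.mul_apply, Fin.sum_univ_two, h] <;> field_simp
  linear_combination hd

theorem eq_up_anti_up (M : SL2) (h : (M : Matrix (Fin 2) (Fin 2) F) 1 0 ≠ 0) :
    ∃ (c : Fˣ) (x y : F), M = up x * anti c * up y := by
  have hd := det_coe M
  refine ⟨Units.mk0 _ h, (M : Matrix (Fin 2) (Fin 2) F) 0 0 / (M : Matrix (Fin 2) (Fin 2) F) 1 0,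
    (M : Matrix (Fin 2) (Fin 2) F) 1 1 / (M : Matrix (Fin 2) (Fin 2) F) 1 0, ?_⟩
  apply sl_ext
  rw [Matrix.SpecialLinearGroup.coe_mul, Matrix.SpecialLinearGroup.coe_mul, up, up, anti, coe_mk2, coe_mk2, coe_mk2]
  ext i j
  fin_cases i <;> fin_cases j <;>
    simp [Matrix.mul_apply, Fin.sum_univ_two] <;> field_simp
  linear_combination -hd

theorem mk_eq_cases {M N : SL2} (h : toPSL M = toPSL N) :
    N = M ∨ (N : Matrix (Fin 2) (Fin 2) F) = -(M : Matrix (Fin 2) (Fin 2) F) := by
  obtain ⟨z, hz, rfl⟩ := (QuotientGroup.eq (s := Subgroup.center (SpecialLinearGroup (Fin 2) F))).mp h |> fun h' => (⟨M⁻¹ * N, h', by group⟩ : ∃ z ∈ Subgroup.center (SpecialLinearGroup (Fin 2) F), N = M * z)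
  obtain ⟨r, hr, hrz⟩ := Matrix.SpecialLinearGroup.mem_center_iff.1 hz
  rw [Fintype.card_fin] at hr
  rcases sq_eq_one_iff.1 hr with rfl | rfl
  · left
    rw [show z = 1 from Subtype.ext (by rw [← hrz, map_one]; rfl), mul_one]
  · right
    rw [Matrix.SpecialLinearGroup.coe_mul, ← hrz, map_neg, map_one, mul_neg, mul_one]

/-- The triangular matrices. -/
def borelSL (F : Type*) [Field F] : Subgroup (SpecialLinearGroup (Fin 2) F) where
  carrier := {M | (M : Matrix (Fin 2) (Fin 2) F) 1 0 = 0}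
  one_mem' := by simp
  mul_mem' {M N} hM hN := by
    show ((M * N : SpecialLinearGroup (Fin 2) F) : Matrix (Fin 2) (Fin 2) F) 1 0 = 0
    rw [Matrix.SpecialLinearGroup.coe_mul, Matrix.mul_apply, Fin.sum_univ_two]
    simp only [Set.mem_setOf_eq] at hM hN
    rw [hM, hN, zero_mul, mul_zero, add_zero]
  inv_mem' {M} hM := by
    show ((M⁻¹ : SpecialLinearGroup (Fin 2) F) : Matrix (Fin 2) (Fin 2) F) 1 0 = 0
    simp only [Set.mem_setOf_eq] at hM
    simp [Matrix.SpecialLinearGroup.coe_inv, Matrix.adjugate_fin_two, hM]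

/-- The stabiliser of `∞`. -/
def borel (F : Type*) [Field F] : Subgroup (PS F) :=
  (borelSL F).map (QuotientGroup.mk' _)

theorem mem_borel_iff (M : SL2) : toPSL M ∈ borel F ↔ (M : Matrix (Fin 2) (Fin 2) F) 1 0 = 0 := by
  constructor
  · rintro ⟨N, hN, hNM⟩
    rcases mk_eq_cases (show toPSL N = toPSL M from hNM) with h | h
    · rw [h]; exact hN
    · rw [h, Matrix.neg_apply, show (N : Matrix (Fin 2) (Fin 2) F) 1 0 = 0 from hN, neg_zero]
  · exact fun h => ⟨M, h, rfl⟩

/-- The translations. -/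
def upHom (F : Type*) [Field F] : Multiplicative F →* PS F :=
  MonoidHom.mk' (fun x => toPSL (up x.toAdd)) fun x y => by
    show (QuotientGroup.mk (up (x * y).toAdd) : PS F) =
      QuotientGroup.mk (up x.toAdd) * QuotientGroup.mk (up y.toAdd)
    rw [← QuotientGroup.mk_mul, up_mul, toAdd_mul]

/-- The group of translations. -/
def unip (F : Type*) [Field F] : Subgroup (PS F) := (upHom F).range

theorem up_mem_unip (x : F) : toPSL (up x) ∈ unip F := ⟨Multiplicative.ofAdd x, rfl⟩

theorem mem_unip_iff {g : PS F} : g ∈ unip F ↔ ∃ x : F, toPSL (up x) = g := by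
  constructor
  · rintro ⟨x, rfl⟩; exact ⟨x.toAdd, rfl⟩
  · rintro ⟨x, rfl⟩; exact up_mem_unip x

theorem up_eq_one {x : F} (h : toPSL (up x) = 1) : x = 0 := by
  rcases mk_eq_cases (show toPSL (1 : SL2) = toPSL (up x) from h.symm) with h' | h'
  · simpa [up, coe_mk2] using congrArg (fun M : SL2 => (M : Matrix (Fin 2) (Fin 2) F) 0 1) h'
  · simpa [up, coe_mk2] using congrFun (congrFun h' 0) 1

theorem upHom_injective : Function.Injective (upHom F) := by
  rw [injective_iff_map_eq_one]
  intro x hx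
  exact Multiplicative.toAdd.injective (up_eq_one hx)

theorem unip_le_borel : unip F ≤ borel F := by
  rintro _ ⟨x, rfl⟩
  exact (mem_borel_iff _).mpr (by simp [up, coe_mk2])

theorem card_unip : Nat.card (unip F) = Nat.card F := by
  rw [unip, ← Nat.card_congr (MonoidHom.ofInjective upHom_injective).toEquiv]
  rfl

theorem borel_ne_top : borel F ≠ ⊤ := fun h => by
  have := (mem_borel_iff (lo (1 : F))).mp (h ▸ Subgroup.mem_top _)
  simp [lo, coe_mk2] at this

theorem toPG_up (x : F) : toPG (toPSL (up x)) = aff 1 x :=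
  upper_eq (up x) x (coe_mk2 ..)

theorem toPG_lo (x : F) : toPG (toPSL (lo x)) = invol * aff 1 x * invol :=
  lower_eq (lo x) x (coe_mk2 ..)

/-- Translations and one element moving `∞` generate. -/
theorem eq_top_of_unip_le {K : Subgroup (PS F)} (hU : unip F ≤ K) {g : PS F} (hg : g ∈ K)
    (hgB : g ∉ borel F) : K = ⊤ := by
  obtain ⟨M, rfl⟩ := QuotientGroup.mk_surjective g
  obtain ⟨c, x, y, rfl⟩ := eq_up_anti_up M fun h => hgB ((mem_borel_iff M).mpr h)
  have hc : toPSL (anti c) ∈ K := by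
    have e : toPSL (anti c) = toPSL (up (-x)) * toPSL (up x * anti c * up y) * toPSL (up (-y)) := by
      simp only [toPSL, ← QuotientGroup.mk_mul, ← up_inv]
      congr 1
      group
    rw [e]
    exact mul_mem (mul_mem (hU (up_mem_unip _)) hg) (hU (up_mem_unip _))
  have hlo : ∀ z : F, toPSL (lo z) ∈ K := fun z => by
    have e : z = -(c : F) ^ 2 * (-z / (c : F) ^ 2) := by field_simp
    rw [e, ← anti_conj_up]
    simp only [toPSL, QuotientGroup.mk_mul, QuotientGroup.mk_inv]
    exact mul_mem (mul_mem hc (hU (up_mem_unip _))) (inv_mem hc)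
  have hle := range_toPGL_le (K.map (toPG : PS F →* PG F))
    (fun b => ⟨_, hU (up_mem_unip b), toPG_up b⟩) (fun b => ⟨_, hlo b, toPG_lo b⟩)
  rw [range_toPGL_eq] at hle
  rw [eq_top_iff]
  intro z _
  obtain ⟨z', hz', e⟩ := hle ⟨z, rfl⟩
  rwa [← toPG_injective e]

theorem le_borel_of_unip_le {K : Subgroup (PS F)} (hU : unip F ≤ K) (hK : K ≠ ⊤) : K ≤ borel F :=
  fun _ hg => by
    by_contra h
    exact hK (eq_top_of_unip_le hU hg h)

variable [Fintype F]

theorem center_PS_eq_bot (h4 : 4 ≤ Fintype.card F) : Subgroup.center (PS F) = ⊥ := by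
  haveI : IsSimpleGroup (PS F) :=
    Linear.isSimpleGroup_PSL_fin 2 le_rfl fun _ => by rwa [Nat.card_eq_fintype_card]
  refine (inferInstance : (Subgroup.center (PS F)).Normal).eq_bot_or_eq_top.resolve_right fun h => ?_
  letI : CommGroup (PS F) := Group.commGroupOfCenterEqTop h
  exact card_PS_ne_prime h4 IsSimpleGroup.prime_card

/-- A proper subgroup normalised by the translations consists of translations or contains them. -/
theorem le_unip_of_normalized (h4 : 4 ≤ Fintype.card F) {S : Subgroup (PS F)}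
    (hN : unip F ≤ Subgroup.normalizer (S : Set (PS F))) (hU : ¬ unip F ≤ S) : S ≤ unip F := by
  haveI : IsSimpleGroup (PS F) :=
    Linear.isSimpleGroup_PSL_fin 2 le_rfl fun _ => by rwa [Nat.card_eq_fintype_card]
  intro g hg
  have hgB : g ∈ borel F := by
    by_contra hgB
    have hN' := eq_top_of_unip_le hN (Subgroup.le_normalizer hg) hgB
    rcases (Subgroup.normalizer_eq_top_iff.mp hN').eq_bot_or_eq_top with h | h
    · rw [h, Subgroup.mem_bot] at hg
      exact hgB (hg ▸ one_mem _)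
    · exact hU (h ▸ le_top)
  obtain ⟨M, rfl⟩ := QuotientGroup.mk_surjective g
  obtain ⟨l, x, rfl⟩ := eq_dg_mul_up M ((mem_borel_iff M).mp hgB)
  by_cases hl : (l : F) ^ 2 = 1
  · refine mem_unip_iff.mpr ⟨x, toPSL_eq_iff.mpr ⟨dg l, ?_, ?_⟩⟩
    · refine mem_center_of_scalar (l : F) ?_
      have hl' : ((l⁻¹ : Fˣ) : F) = l := by
        rw [Units.val_inv_eq_inv_val]
        exact inv_eq_of_mul_eq_one_right (by rw [← pow_two, hl])
      ext i j
      fin_cases i <;> fin_cases j <;> simp [dg, coe_mk2, hl']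
    · exact (mul_inv_eq_iff_eq_mul.mp (by
        rw [dg_conj_up, hl, one_mul]) : dg l * up x = up x * dg l)
  · exfalso
    refine hU fun u hu => ?_
    obtain ⟨y, rfl⟩ := mem_unip_iff.mp hu
    set z := y / ((l : F) ^ 2 - 1) with hz
    have hgg : (dg l * up x) * up z * (dg l * up x)⁻¹ = up ((l : F) ^ 2 * z) := by
      calc (dg l * up x) * up z * (dg l * up x)⁻¹ = dg l * (up x * up z * (up x)⁻¹) * (dg l)⁻¹ := by
            group
        _ = dg l * up z * (dg l)⁻¹ := by rw [up_mul, up_inv, up_mul]; congr 2; ring_nf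
        _ = _ := dg_conj_up l z
    have e : toPSL (up y) = toPSL (dg l * up x) *
        (toPSL (up z) * (toPSL (dg l * up x))⁻¹ * (toPSL (up z))⁻¹) := by
      simp only [toPSL, ← QuotientGroup.mk_mul, ← QuotientGroup.mk_inv]
      congr 1
      rw [← mul_assoc, ← mul_assoc, hgg, up_inv, up_mul]
      congr 1
      rw [hz]
      field_simp [sub_ne_zero.mpr hl]
      ring
    rw [e]
    exact mul_mem hg ((Subgroup.mem_normalizer_iff.mp (hN (up_mem_unip z)) _).mp (inv_mem hg))

section Tori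

variable {M : SpecialLinearGroup (Fin 2) F}

local notation "T[" M "]" => Subgroup.centralizer ({M} : Set (SpecialLinearGroup (Fin 2) F))

/-- In a torus, an element is determined up to inverse by its trace. -/
theorem eq_or_inv_of_trace_eq (hM : (M : Matrix (Fin 2) (Fin 2) F).trace ^ 2 ≠ 4) {A : SL2}
    (hA : A ∈ T[M]) (ht : (A : Matrix (Fin 2) (Fin 2) F).trace = (M : Matrix (Fin 2) (Fin 2) F).trace) :
    A = M ∨ A = M⁻¹ := by
  obtain ⟨P, h, rfl, hP, hh⟩ := exists_coords hM hA
  rw [trace_mul_mul_inv] at ht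
  set τ := (M : Matrix (Fin 2) (Fin 2) F).trace
  obtain ⟨h1, h2⟩ := (mem_centralizer_comp_iff τ h).1 hh
  have hdet := det_coe h
  rw [h1, h2] at hdet
  rw [trace_fin_two, h2] at ht
  set r := (h : Matrix (Fin 2) (Fin 2) F) 1 0
  set s := (h : Matrix (Fin 2) (Fin 2) F) 0 0
  have h0 : (τ ^ 2 - 4) * (r - 1) * (r + 1) = 0 := by
    linear_combination (2 * s + τ * r + τ) * ht - 4 * hdet
  have cases : (r = 1 ∧ s = 0) ∨ (r = -1 ∧ s = τ) := by
    rcases mul_eq_zero.1 h0 with h0 | h0
    · rcases mul_eq_zero.1 h0 with h0 | h0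
      · exact absurd (sub_eq_zero.1 h0) hM
      · have hr : r = 1 := sub_eq_zero.1 h0
        by_cases h2' : (2 : F) = 0
        · rw [hr] at hdet
          rcases mul_eq_zero.1 (show s * (s + τ) = 0 by linear_combination hdet) with hs | hs
          · exact Or.inl ⟨hr, hs⟩
          · exact Or.inr ⟨by linear_combination hr + h2', by linear_combination hs - τ * h2'⟩
        · rw [hr] at ht
          exact Or.inl ⟨hr, (mul_eq_zero.1 (show (2 : F) * s = 0 by linear_combination ht)).resolve_left h2'⟩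
    · have hr : r = -1 := by linear_combination h0
      by_cases h2' : (2 : F) = 0
      · rw [hr] at hdet
        rcases mul_eq_zero.1 (show s * (s - τ) = 0 by linear_combination hdet) with hs | hs
        · exact Or.inl ⟨by linear_combination hr - h2', hs⟩
        · exact Or.inr ⟨hr, by linear_combination hs⟩
      · rw [hr] at ht
        exact Or.inr ⟨hr, mul_left_cancel₀ h2' (by linear_combination ht)⟩
  rcases cases with ⟨hr, hs⟩ | ⟨hr, hs⟩
  · left
    conv_rhs => rw [hP]
    congr 2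
    apply sl_ext
    ext i j
    fin_cases i <;> fin_cases j <;> simp [coe_comp, h1, h2, hr, hs, r, s] at * <;> simp [*]
  · right
    rw [show M⁻¹ = P * (comp τ)⁻¹ * P⁻¹ by conv_lhs => rw [hP]
                                           group]
    congr 2
    apply sl_ext
    rw [Matrix.SpecialLinearGroup.coe_inv, coe_comp, adjugate_fin_two_of]
    ext i j
    fin_cases i <;> fin_cases j <;> simp [h1, h2, hr, hs, r, s] at * <;> simp [*]

/-- Commuting in `PSL₂` with the image of an element of non-zero trace. -/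
theorem mem_torus_of_commute (ht : (M : Matrix (Fin 2) (Fin 2) F).trace ≠ 0) {A : SL2}
    (h : toPSL A * toPSL M = toPSL M * toPSL A) : A ∈ T[M] := by
  rw [Subgroup.mem_centralizer_singleton_iff]
  have h' : toPSL (A * M * A⁻¹) = toPSL M := by
    simp only [toPSL, QuotientGroup.mk_mul, QuotientGroup.mk_inv]
    exact mul_inv_eq_iff_eq_mul.mpr h
  rcases mk_eq_cases h' with e | e
  · exact (mul_inv_eq_iff_eq_mul.mp e.symm)
  · have h2 : (2 : F) = 0 := by
      have := congrArg Matrix.trace e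
      rw [Matrix.trace_neg, trace_mul_mul_inv] at this
      exact (mul_eq_zero.mp (show (2 : F) * (M : Matrix (Fin 2) (Fin 2) F).trace = 0 by
        linear_combination this)).resolve_right ht
    have : M = A * M * A⁻¹ := Subtype.ext (by
      rw [e]
      ext i j
      rw [Matrix.neg_apply]
      linear_combination -(((A * M * A⁻¹ : SL2) : Matrix (Fin 2) (Fin 2) F) i j) * h2)
    exact mul_inv_eq_iff_eq_mul.mp this.symm

/-- The centraliser in `PSL₂` of a regular element of non-zero trace is cyclic. -/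
theorem centralizer_toPSL (hM : (M : Matrix (Fin 2) (Fin 2) F).trace ^ 2 ≠ 4)
    (ht : (M : Matrix (Fin 2) (Fin 2) F).trace ≠ 0) :
    Subgroup.centralizer ({toPSL M} : Set (PS F)) = T[M].map (QuotientGroup.mk' _) ∧
      IsCyclic (Subgroup.centralizer ({toPSL M} : Set (PS F))) := by
  have e : Subgroup.centralizer ({toPSL M} : Set (PS F)) = T[M].map (QuotientGroup.mk' _) := by
    ext g
    obtain ⟨A, rfl⟩ := QuotientGroup.mk_surjective g
    constructor
    · intro hg
      exact ⟨A, mem_torus_of_commute ht (Subgroup.mem_centralizer_singleton_iff.mp hg), rfl⟩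
    · rintro ⟨B, hB, hBA⟩
      rw [← hBA, Subgroup.mem_centralizer_singleton_iff]
      show (QuotientGroup.mk B : PS F) * QuotientGroup.mk M = QuotientGroup.mk M * QuotientGroup.mk B
      rw [← QuotientGroup.mk_mul, ← QuotientGroup.mk_mul, Subgroup.mem_centralizer_singleton_iff.mp hB]
  refine ⟨e, ?_⟩
  rw [e]
  haveI := (centralizer_card_cyclic M hM).1
  exact isCyclic_of_surjective ((QuotientGroup.mk' _).subgroupMap T[M])
    ((QuotientGroup.mk' _).subgroupMap_surjective T[M])

theorem two_mul_card_centralizer_le (h2 : (2 : F) ≠ 0)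
    (hM : (M : Matrix (Fin 2) (Fin 2) F).trace ^ 2 ≠ 4)
    (ht : (M : Matrix (Fin 2) (Fin 2) F).trace ≠ 0) :
    2 * Nat.card (Subgroup.centralizer ({toPSL M} : Set (PS F))) ≤ Fintype.card F + 1 := by
  rw [(centralizer_toPSL hM ht).1]
  obtain ⟨hcyc, hyes, hno⟩ := centralizer_card_cyclic M hM
  have hn : Nat.card T[M] ≤ Fintype.card F + 1 := by
    by_cases h : ∃ u : F, u ^ 2 - (M : Matrix (Fin 2) (Fin 2) F).trace * u + 1 = 0
    · rw [hyes h]; omega
    · rw [hno h]
  refine le_trans ?_ hn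
  let f := (QuotientGroup.mk' (Subgroup.center SL2)).subgroupMap T[M]
  have hk := f.ker.card_mul_index
  rw [Subgroup.index_ker, MonoidHom.range_eq_top.mpr
    ((QuotientGroup.mk' _).subgroupMap_surjective T[M]), Subgroup.card_top] at hk
  have h1 : 2 ≤ Nat.card f.ker := by
    haveI : Nontrivial f.ker := by
      rw [Subgroup.nontrivial_iff_exists_ne_one]
      refine ⟨⟨-1, neg_one_mem hM⟩, ?_, fun h => ?_⟩
      · refine Subtype.ext ((QuotientGroup.eq_one_iff _).mpr (mem_center_of_scalar (-1) ?_))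
        rw [Matrix.SpecialLinearGroup.coe_neg, map_neg, map_one]
        rfl
      · have := congrArg (fun A : T[M] => ((A : SL2) : Matrix (Fin 2) (Fin 2) F) 0 0) h
        simp at this
        exact h2 (by linear_combination -this)
    exact Finite.one_lt_card
  rw [← hk]
  exact Nat.mul_le_mul_right _ h1

end Tori

section Involutions

theorem inverter_facts (h2 : (2 : F) ≠ 0) {X U : SL2}
    (hX : (X : Matrix (Fin 2) (Fin 2) F).trace = 0) (hU : U * X * U⁻¹ = X⁻¹) :
    (U : Matrix (Fin 2) (Fin 2) F).trace = 0 ∧ Commute (toPSL U) (toPSL X) := by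
  refine ⟨trace_zero_of_inverts h2 hX hU, ?_⟩
  have e : (toPSL U : PS F) * toPSL X = toPSL (X⁻¹) * toPSL U := by
    simp only [toPSL, ← QuotientGroup.mk_mul]
    rw [mul_inv_eq_iff_eq_mul.mp hU]
  have hX1 : toPSL (X⁻¹) = toPSL X := by
    refine toPSL_eq_iff.mpr ⟨X * X, mul_self_mem_center hX, ?_⟩
    rw [inv_mul_cancel_left]
  rwa [hX1] at e

/-- The centraliser of an involution is generated by the involutions in it. -/
theorem centralizer_le_of_involutions (h2 : (2 : F) ≠ 0) {h : PS F} (hh : orderOf h = 2)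
    {H : Subgroup (PS F)} (hH : ∀ a : PS F, orderOf a = 2 → a * h = h * a → a ∈ H) :
    Subgroup.centralizer ({h} : Set (PS F)) ≤ H := by
  obtain ⟨X, rfl⟩ := QuotientGroup.mk_surjective h
  have hX := (orderOf_two_iff h2 X).mp hh
  have hreg := trace_sq_ne_four h2 hX
  obtain ⟨U, hU⟩ := exists_inverter hreg
  have hUX : ∀ W : SL2, W * X * W⁻¹ = X⁻¹ → toPSL W ∈ H := fun W hW => by
    obtain ⟨h1, h2'⟩ := inverter_facts h2 hX hW
    exact hH _ ((orderOf_two_iff h2 W).mpr h1) h2'.eq
  intro g hg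
  obtain ⟨A, rfl⟩ := QuotientGroup.mk_surjective g
  have hg' : toPSL X = toPSL (A * X * A⁻¹) := by
    simp only [toPSL, QuotientGroup.mk_mul, QuotientGroup.mk_inv]
    exact (mul_inv_eq_iff_eq_mul.mpr (Subgroup.mem_centralizer_singleton_iff.mp hg)).symm
  rcases mk_eq_cases hg' with e | e
  · have hAU : (A * U) * X * (A * U)⁻¹ = X⁻¹ := by
      calc (A * U) * X * (A * U)⁻¹ = A * (U * X * U⁻¹) * A⁻¹ := by group
        _ = (A * X * A⁻¹)⁻¹ := by rw [hU]; group
        _ = X⁻¹ := by rw [e]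
    have : toPSL A = toPSL (A * U) * (toPSL U)⁻¹ := by
      simp only [toPSL, QuotientGroup.mk_mul]
      group
    show toPSL A ∈ H
    rw [this]
    exact mul_mem (hUX _ hAU) (inv_mem (hUX _ hU))
  · refine hUX A (Subtype.ext ?_)
    rw [e, Matrix.SpecialLinearGroup.coe_inv, adjugate_fin_two]
    rw [trace_fin_two] at hX
    ext i j
    fin_cases i <;> fin_cases j <;> simp <;> first | linear_combination hX | linear_combination -hX

/-- An element permuting cyclically the three involutions of a four-group. -/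
theorem exists_cycle (h2 : (2 : F) ≠ 0) {a h : PS F} (ha : orderOf a = 2) (hh : orderOf h = 2)
    (hne : a ≠ h) (hc : a * h = h * a) :
    ∃ z : PS F, z * a * z⁻¹ = h ∧ z * h * z⁻¹ = a * h := by
  obtain ⟨X, rfl⟩ := QuotientGroup.mk_surjective a
  obtain ⟨Y, rfl⟩ := QuotientGroup.mk_surjective h
  have hX := (orderOf_two_iff h2 X).mp ha
  have hY := (orderOf_two_iff h2 Y).mp hh
  have hYX : toPSL X = toPSL (Y * X * Y⁻¹) := by
    simp only [toPSL, QuotientGroup.mk_mul, QuotientGroup.mk_inv]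
    exact (mul_inv_eq_iff_eq_mul.mpr hc.symm).symm
  rcases mk_eq_cases hYX with e | e
  · exfalso
    have hYT : Y ∈ Subgroup.centralizer ({X} : Set SL2) :=
      Subgroup.mem_centralizer_singleton_iff.mpr (mul_inv_eq_iff_eq_mul.mp e)
    rcases eq_or_inv_of_trace_eq (trace_sq_ne_four h2 hX) hYT (hY.trans hX.symm) with rfl | rfl
    · exact hne rfl
    · refine hne (toPSL_eq_iff.mpr ⟨(X * X)⁻¹, inv_mem (mul_self_mem_center hX), ?_⟩)
      group
  · set A := (X : Matrix (Fin 2) (Fin 2) F) with hA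
    set B := (Y : Matrix (Fin 2) (Fin 2) F) with hB
    have hAA : A * A = -1 := by rw [← sq_eq_neg_one hX]; rfl
    have hBB : B * B = -1 := by rw [← sq_eq_neg_one hY]; rfl
    have hBA : B * A = -(A * B) := by
      have h1 : ((Y * X * Y⁻¹ * Y : SL2) : Matrix (Fin 2) (Fin 2) F) = -A * B := by
        rw [Matrix.SpecialLinearGroup.coe_mul, e]
      rwa [inv_mul_cancel_right, Matrix.SpecialLinearGroup.coe_mul, ← hA, ← hB, neg_mul] at h1
    have hdet : ((2 : F)⁻¹ • ((1 + A) * (1 + B))).det = 1 := by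
      rw [Matrix.det_smul, Fintype.card_fin, Matrix.det_mul]
      have d : ∀ C : SL2, (C : Matrix (Fin 2) (Fin 2) F).trace = 0 →
          (1 + (C : Matrix (Fin 2) (Fin 2) F)).det = 2 := fun C hC => by
        have hd := det_coe C
        rw [trace_fin_two] at hC
        simp [Matrix.det_fin_two]
        linear_combination hd + hC
      rw [d X hX, d Y hY]
      field_simp
    set W : SL2 := ⟨(2 : F)⁻¹ • ((1 + A) * (1 + B)), hdet⟩ with hW
    have eA : (1 + A) * (1 + B) * A = B * ((1 + A) * (1 + B)) := by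
      have t1 : (1 + B) * A = A * (1 - B) := by
        rw [add_mul, mul_sub, one_mul, mul_one, hBA, sub_eq_add_neg]
      have t2 : B * (1 + A) = (1 - A) * B := by
        rw [mul_add, sub_mul, one_mul, mul_one, hBA, sub_eq_add_neg]
      rw [mul_assoc, t1, ← mul_assoc, ← mul_assoc B, t2]
      noncomm_ring [hAA, hBB]
    have eB : (1 + A) * (1 + B) * B = A * B * ((1 + A) * (1 + B)) := by
      have t2 : A * B * (1 + A) = A * B + B := by
        rw [mul_add, mul_one, mul_assoc, hBA, mul_neg, ← mul_assoc, hAA, neg_mul, one_mul, neg_neg]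
      rw [← mul_assoc (A * B), t2]
      noncomm_ring [hBB]
    refine ⟨toPSL W, ?_, ?_⟩
    · rw [mul_inv_eq_iff_eq_mul]
      show (QuotientGroup.mk W : PS F) * QuotientGroup.mk X = QuotientGroup.mk Y * QuotientGroup.mk W
      rw [← QuotientGroup.mk_mul, ← QuotientGroup.mk_mul]
      congr 1
      apply sl_ext
      rw [Matrix.SpecialLinearGroup.coe_mul, Matrix.SpecialLinearGroup.coe_mul]
      show (2 : F)⁻¹ • ((1 + A) * (1 + B)) * A = B * ((2 : F)⁻¹ • ((1 + A) * (1 + B)))
      rw [smul_mul_assoc, mul_smul_comm, eA]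
    · rw [mul_inv_eq_iff_eq_mul]
      show (QuotientGroup.mk W : PS F) * QuotientGroup.mk Y =
        QuotientGroup.mk X * QuotientGroup.mk Y * QuotientGroup.mk W
      rw [← QuotientGroup.mk_mul, ← QuotientGroup.mk_mul, ← QuotientGroup.mk_mul]
      congr 1
      apply sl_ext
      rw [Matrix.SpecialLinearGroup.coe_mul, Matrix.SpecialLinearGroup.coe_mul, Matrix.SpecialLinearGroup.coe_mul]
      show (2 : F)⁻¹ • ((1 + A) * (1 + B)) * B = A * B * ((2 : F)⁻¹ • ((1 + A) * (1 + B)))
      rw [smul_mul_assoc, mul_smul_comm, eB]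

end Involutions

end CfsgLib.PSL2Sub.Binary
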