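import Cfsg.Agent.Lib.PSL2Sub.Binary.Matrices

/-!
Non-binary coset actions of `PSL₂(q)`: the main configurations.
-/

set_option autoImplicit false
set_option linter.unusedSectionVars false

namespace CfsgLib.PSL2Sub.Binary

open Matrix CfsgLib.SL2Trace
open scoped Classical

variable {F : Type*} [Field F]

local notation "SL2" => SpecialLinearGroup (Fin 2) F
local notation "π" => CfsgLib.SL2Trace.toPSL (F := F)

theorem toPSL_mul (M N : SL2) : π (M * N) = π M * π N := rfl

theorem toPSL_inv (M : SL2) : π M⁻¹ = (π M)⁻¹ := rfl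

theorem toPSL_conj (P M : SL2) : π (P * M * P⁻¹) = π P * π M * (π P)⁻¹ := rfl

theorem toPSL_eq_of_neg {M N : SL2}
    (h : (M : Matrix (Fin 2) (Fin 2) F) = -(N : Matrix (Fin 2) (Fin 2) F)) : π M = π N := by
  refine (QuotientGroup.eq (s := Subgroup.center SL2)).mpr (mem_center_of_scalar (-1) ?_)
  rw [map_neg, map_one]
  have e : ((M⁻¹ * M : SL2) : Matrix (Fin 2) (Fin 2) F) = 1 := by rw [inv_mul_cancel]; rfl
  rw [Matrix.SpecialLinearGroup.coe_mul, h, mul_neg] at e
  rw [Matrix.SpecialLinearGroup.coe_mul, ← e, neg_neg]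

theorem toPSL_up_add (x y : F) : π (up x) * π (up y) = π (up (x + y)) := by
  rw [← toPSL_mul, up_mul]

theorem unipotent_product (h2 : (2 : F) ≠ 0) {s : F} (hs : s ≠ 0) :
    π (mk2 (s / 2) (-1) 1 0 (by ring) * up (-4 / s) * (mk2 (s / 2) (-1) 1 0 (by ring))⁻¹ *
      lo (4 / s)) = π (up s) := by
  refine toPSL_eq_of_neg ?_
  rw [Matrix.SpecialLinearGroup.coe_mul, Matrix.SpecialLinearGroup.coe_mul,
    Matrix.SpecialLinearGroup.coe_mul, Matrix.SpecialLinearGroup.coe_inv, up, up, lo, coe_mk2,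
    coe_mk2, coe_mk2, coe_mk2, Matrix.adjugate_fin_two_of]
  ext i j
  fin_cases i <;> fin_cases j <;>
    simp [Matrix.mul_apply, Fin.sum_univ_two] <;> field_simp <;> ring

theorem unipotent_param (h2 : (2 : F) ≠ 0) {s : F} (hs : s ≠ 0) {x y : F}
    (heq : π (mk2 (s / 2) (-1) 1 0 (by ring) * up y * (mk2 (s / 2) (-1) 1 0 (by ring))⁻¹) =
      π (lo x)) : y = 0 := by
  set M : SL2 := mk2 (s / 2) (-1) 1 0 (by ring) * up y * (mk2 (s / 2) (-1) 1 0 (by ring))⁻¹ with hM
  have e01 : (M : Matrix (Fin 2) (Fin 2) F) 0 1 = 0 := by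
    rcases mk_eq_cases heq with h | h
    · rw [← h]; simp [lo, coe_mk2]
    · have := congrFun (congrFun h 0) 1
      simpa [lo, coe_mk2] using this
  rw [hM, Matrix.SpecialLinearGroup.coe_mul, Matrix.SpecialLinearGroup.coe_mul,
    Matrix.SpecialLinearGroup.coe_inv, up, coe_mk2, coe_mk2, Matrix.adjugate_fin_two_of] at e01
  simp [Matrix.mul_apply, Fin.sum_univ_two] at e01
  field_simp at e01
  by_contra hy
  exact mul_ne_zero hy (pow_ne_zero 2 hs) (by linear_combination e01)

theorem exists_normalized_closure {G : Type*} [Group G] (U : Subgroup G) (x : G) (H : Subgroup G)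
    (hall : ∀ u ∈ U, u * x * u⁻¹ ∈ H) :
    ∃ K : Subgroup G, U ≤ Subgroup.normalizer (K : Set G) ∧ x ∈ K ∧ K ≤ H := by
  refine ⟨Subgroup.closure {z | ∃ u ∈ U, u * x * u⁻¹ = z}, ?_,
    Subgroup.subset_closure ⟨1, one_mem _, by group⟩,
    (Subgroup.closure_le _).mpr (by rintro _ ⟨u, hu, rfl⟩; exact hall u hu)⟩
  have key : ∀ v ∈ U, ∀ y ∈ Subgroup.closure {z | ∃ u ∈ U, u * x * u⁻¹ = z},
      v * y * v⁻¹ ∈ Subgroup.closure {z | ∃ u ∈ U, u * x * u⁻¹ = z} := by
    intro v hv y hy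
    have hle : (Subgroup.closure {z | ∃ u ∈ U, u * x * u⁻¹ = z}).map (MulAut.conj v).toMonoidHom ≤
        Subgroup.closure {z | ∃ u ∈ U, u * x * u⁻¹ = z} := by
      rw [Subgroup.map_le_iff_le_comap, Subgroup.closure_le]
      rintro _ ⟨u, hu, rfl⟩
      exact Subgroup.subset_closure ⟨v * u, mul_mem hv hu, by simp [mul_assoc]⟩
    exact hle ⟨y, hy, by simp⟩
  intro v hv
  rw [Subgroup.mem_normalizer_iff]
  intro y
  refine ⟨key v hv y, fun hy => ?_⟩
  have := key v⁻¹ (inv_mem hv) _ hy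
  simpa [mul_assoc] using this

variable [Fintype F]

/-- The configuration of unipotent elements, `q` odd. -/
theorem unipotent_case (h2 : (2 : F) ≠ 0) (h4 : 4 ≤ Fintype.card F) {H : Subgroup (PS F)}
    (hb : IsBinary H) (hH : H ≠ ⊤) {s : F} (hs : s ≠ 0) (hh : π (up s) ∈ H)
    (hS : ∀ x : F, x ≠ 0 → (∃ g : PS F, g⁻¹ * π (up x) * g ∈ H) →
      fixInter H (π (up x)) ≤ unip F) : False := by
  haveI : IsSimpleGroup (PS F) :=
    Linear.isSimpleGroup_PSL_fin 2 le_rfl fun _ => by rwa [Nat.card_eq_fintype_card]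
  set k : F := -4 / s with hk
  have h40 : (4 : F) ≠ 0 := by
    rw [show (4 : F) = 2 * 2 by norm_num]; exact mul_ne_zero h2 h2
  have hk0 : k ≠ 0 := div_ne_zero (neg_ne_zero.mpr h40) hs
  set c : F := 4 / s with hc
  have hc0 : c ≠ 0 := div_ne_zero h40 hs
  -- some translate of `lo c` is outside `H`
  obtain ⟨u, hu⟩ : ∃ u : F, π (up u) * π (lo c) * (π (up u))⁻¹ ∉ H := by
    by_contra hall
    push Not at hall
    obtain ⟨K, hN, hmem, hKH⟩ := exists_normalized_closure (unip F) (π (lo c)) H fun x hx => by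
      obtain ⟨u, rfl⟩ := mem_unip_iff.mp hx
      exact hall u
    have hlo : π (lo c) ∉ borel F := fun h => hc0 (by
      have := (mem_borel_iff (lo c)).mp h
      simpa [lo, coe_mk2] using this)
    have htop := eq_top_of_unip_le hN (Subgroup.le_normalizer hmem) hlo
    rcases (Subgroup.normalizer_eq_top_iff.mp htop).eq_bot_or_eq_top with h | h
    · rw [h, Subgroup.mem_bot] at hmem
      exact hlo (hmem ▸ one_mem _)
    · exact hH (eq_top_iff.mpr (h ▸ hKH))
  set g : SL2 := mk2 (s / 2) (-1) 1 0 (by ring) with hg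
  have hga : anti (1 : Fˣ) * up k * (anti (1 : Fˣ))⁻¹ = lo c := by
    rw [anti_conj_up]
    congr 1
    rw [hk, hc, Units.val_one]
    ring
  set G₁ := π (up u) * π (anti (1 : Fˣ)) with hG₁
  set G₂ := π (up u) * π g with hG₂
  set a := G₁ * π (up k) * G₁⁻¹ with ha
  set b := G₂ * π (up k) * G₂⁻¹ with hb'
  have hau : a = π (up u) * π (lo c) * (π (up u))⁻¹ := by
    rw [ha, hG₁, ← hga, toPSL_conj]
    group
  have hprod : π g * π (up k) * (π g)⁻¹ * π (lo c) = π (up s) := by
    rw [← toPSL_conj, ← toPSL_mul]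
    exact unipotent_product h2 hs
  have hba : b * a ∈ H := by
    have : b * a = π (up s) := by
      rw [hau, hb', hG₂]
      calc π (up u) * π g * π (up k) * (π (up u) * π g)⁻¹ *
            (π (up u) * π (lo c) * (π (up u))⁻¹)
          = π (up u) * (π g * π (up k) * (π g)⁻¹ * π (lo c)) * (π (up u))⁻¹ := by group
        _ = π (up u) * π (up s) * (π (up u))⁻¹ := by rw [hprod]
        _ = π (up s) := by
          rw [toPSL_up_add, ← toPSL_inv, up_inv, toPSL_up_add]
          congr 2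
          ring
    rwa [this]
  have hne : ∃ x : PS F, x⁻¹ * π (up k) * x ∈ H := by
    refine ⟨π (dg (Units.mk0 (2 / s) (div_ne_zero h2 hs))), ?_⟩
    set D := dg (Units.mk0 (2 / s) (div_ne_zero h2 hs)) with hD
    have e : up k = D * (up s)⁻¹ * D⁻¹ := by
      rw [up_inv, hD, dg_conj_up]
      congr 1
      rw [hk, Units.val_mk0]
      field_simp
      ring
    rw [e, toPSL_conj, toPSL_inv]
    simpa [mul_assoc] using hh
  obtain ⟨w, hwa, hwb, hw⟩ := exists_mem_fixInter_of_binary hb hba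
  have hw1 : G₁⁻¹ * w * G₁ ∈ unip F := hS k hk0 hne (by
    have := conj_mem_fixInter G₁⁻¹ hwa
    rw [inv_inv, ha, show G₁⁻¹ * (G₁ * π (up k) * G₁⁻¹) * G₁ = π (up k) by group] at this
    exact this)
  have hw2 : G₂⁻¹ * w * G₂ ∈ unip F := hS k hk0 hne (by
    have := conj_mem_fixInter G₂⁻¹ hwb
    rw [inv_inv, hb', show G₂⁻¹ * (G₂ * π (up k) * G₂⁻¹) * G₂ = π (up k) by group] at this
    exact this)
  obtain ⟨x, hx⟩ := mem_unip_iff.mp hw1
  obtain ⟨y, hy⟩ := mem_unip_iff.mp hw2
  have heq : π (g * up y * g⁻¹) = π (anti (1 : Fˣ) * up x * (anti (1 : Fˣ))⁻¹) := by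
    rw [toPSL_conj, toPSL_conj, hx, hy, hG₁, hG₂]
    group
  have hy0 : y = 0 := by
    rw [anti_conj_up] at heq
    exact unipotent_param h2 hs heq
  have hw' : w = 1 := by
    rw [hy0, up_zero] at hy
    calc w = G₂ * (G₂⁻¹ * w * G₂) * G₂⁻¹ := by group
      _ = 1 := by rw [← hy, toPSL, QuotientGroup.mk_one, mul_one, mul_inv_cancel]
  rw [hw', mul_one, H.inv_mem_iff, hau] at hw
  exact hu hw

/-- Inside the stabiliser of a point, with a diagonal element of order at least three. -/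
theorem triangular_case {H : Subgroup (PS F)} (hb : IsBinary H) (hle : H ≤ borel F) {l : Fˣ}
    (hl : π (dg l) ∈ H) (hl4 : (l : F) ^ 4 ≠ 1) : False := by
  have hl0 : (l : F) ≠ 0 := l.ne_zero
  have hl2 : (l : F) ^ 2 ≠ 1 := fun h => hl4 (by linear_combination ((l : F) ^ 2 + 1) * h)
  have hd1 : ((l⁻¹ : Fˣ) : F) - l ≠ 0 := fun h => hl2 (by
    rw [Units.val_inv_eq_inv_val] at h
    field_simp at h
    linear_combination -h)
  have hd2 : (l : F) ^ 2 - ((l⁻¹ : Fˣ) : F) ^ 2 ≠ 0 := fun h => hl4 (by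
    rw [Units.val_inv_eq_inv_val] at h
    field_simp at h
    linear_combination h)
  set x : F := 1 / (((l⁻¹ : Fˣ) : F) - l) with hx
  set y : F := -((l⁻¹ : Fˣ) : F) / ((l : F) ^ 2 - ((l⁻¹ : Fˣ) : F) ^ 2) with hy
  have hxy : x ≠ y := by
    intro h
    rw [hx, hy, div_eq_div_iff hd1 hd2, Units.val_inv_eq_inv_val] at h
    field_simp at h
    exact hl2 (mul_left_cancel₀ (pow_ne_zero 2 hl0) (by linear_combination h))
  set a := π (lo x) * π (dg l⁻¹) * (π (lo x))⁻¹ with ha
  set b := π (lo y) * π (dg (l ^ 2)) * (π (lo y))⁻¹ with hb'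
  have haM : lo x * dg l⁻¹ * (lo x)⁻¹ = mk2 ((l⁻¹ : Fˣ) : F) 0 1 (l : F) (by simp) := by
    rw [lo_inv]
    apply sl_ext
    rw [Matrix.SpecialLinearGroup.coe_mul, Matrix.SpecialLinearGroup.coe_mul, lo, lo, dg, coe_mk2,
      coe_mk2, coe_mk2, coe_mk2]
    ext i j
    fin_cases i <;> fin_cases j <;> simp [Matrix.mul_apply, Fin.sum_univ_two]
    rw [hx, Units.val_inv_eq_inv_val] at *
    field_simp at hd1 ⊢
    ring
  have hbM : lo y * dg (l ^ 2) * (lo y)⁻¹ =
      mk2 ((l : F) ^ 2) 0 (-((l⁻¹ : Fˣ) : F)) (((l⁻¹ : Fˣ) : F) ^ 2) (by simp [← mul_pow]) := by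
    rw [lo_inv]
    apply sl_ext
    rw [Matrix.SpecialLinearGroup.coe_mul, Matrix.SpecialLinearGroup.coe_mul, lo, lo, dg, coe_mk2,
      coe_mk2, coe_mk2, coe_mk2]
    ext i j
    fin_cases i <;> fin_cases j <;> simp [Matrix.mul_apply, Fin.sum_univ_two]
    rw [hy, Units.val_inv_eq_inv_val] at *
    field_simp at hd2 ⊢
    ring
  have hba : b * a = π (dg l) := by
    rw [ha, hb', ← toPSL_conj, ← toPSL_conj, ← toPSL_mul, haM, hbM]
    congr 1
    apply sl_ext
    rw [Matrix.SpecialLinearGroup.coe_mul, dg, coe_mk2, coe_mk2, coe_mk2]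
    ext i j
    fin_cases i <;> fin_cases j <;> simp [Matrix.mul_apply, Fin.sum_univ_two] <;> field_simp <;> ring
  have hli : π (dg l⁻¹) ∈ H := by rw [← dg_inv, toPSL_inv]; exact inv_mem hl
  have hl2H : π (dg (l ^ 2)) ∈ H := by rw [pow_two, dg_mul, toPSL_mul]; exact mul_mem hl hl
  have hl2i : π (dg (l ^ 2)⁻¹) ∈ H := by rw [← dg_inv, toPSL_inv]; exact inv_mem hl2H
  have hpts : ∀ (z : F) (m : Fˣ), π (dg m) ∈ H → π (dg m⁻¹) ∈ H →
      ∀ g ∈ ({π (lo z), π (lo z * anti 1)} : Set (PS F)),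
        g⁻¹ * (π (lo z) * π (dg m) * (π (lo z))⁻¹) * g ∈ H := by
    intro z m hm hmi g hg
    rcases hg with rfl | rfl
    · simpa [mul_assoc] using hm
    · have e : (π (lo z * anti 1))⁻¹ * (π (lo z) * π (dg m) * (π (lo z))⁻¹) * π (lo z * anti 1)
          = π ((anti 1)⁻¹ * dg m * (anti 1)⁻¹⁻¹) := by
        simp only [toPSL, QuotientGroup.mk_mul, QuotientGroup.mk_inv]
        group
      rw [e, anti_inv, anti_conj_dg]
      exact hmi
  obtain ⟨w, hwA, hwB, hw⟩ := exists_common_of_binary hb (hba ▸ hl)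
    {π (lo x), π (lo x * anti 1)} {π (lo y), π (lo y * anti 1)}
    (hpts x l⁻¹ hli (by rwa [inv_inv])) (hpts y (l ^ 2) hl2H hl2i)
  obtain ⟨W, rfl⟩ := QuotientGroup.mk_surjective w
  have key : ∀ z : F, (∀ g ∈ ({π (lo z), π (lo z * anti 1)} : Set (PS F)),
      g⁻¹ * π W * g ∈ H) → (W : Matrix (Fin 2) (Fin 2) F) 0 1 = 0 ∧
        (W : Matrix (Fin 2) (Fin 2) F) 1 0 =
          z * ((W : Matrix (Fin 2) (Fin 2) F) 0 0 - (W : Matrix (Fin 2) (Fin 2) F) 1 1) := by
    intro z hz
    have h1 := hle (hz (π (lo z)) (Or.inl rfl))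
    have h2 := hle (hz (π (lo z * anti 1)) (Or.inr rfl))
    rw [← toPSL_inv, ← toPSL_mul, ← toPSL_mul, mem_borel_iff] at h1 h2
    rw [_root_.mul_inv_rev, lo_inv, anti_inv] at h2
    rw [lo_inv] at h1
    simp [lo, anti, coe_mk2, Matrix.SpecialLinearGroup.coe_mul, Matrix.mul_apply,
      Fin.sum_univ_two, Matrix.vecMul, dotProduct] at h1 h2
    refine ⟨?_, ?_⟩
    · linear_combination h2
    · linear_combination h1 + z ^ 2 * h2
  obtain ⟨hW01, hWx⟩ := key x hwA
  obtain ⟨-, hWy⟩ := key y hwB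
  have hdiag : (W : Matrix (Fin 2) (Fin 2) F) 0 0 = (W : Matrix (Fin 2) (Fin 2) F) 1 1 := by
    have : (x - y) * ((W : Matrix (Fin 2) (Fin 2) F) 0 0 - (W : Matrix (Fin 2) (Fin 2) F) 1 1) = 0 := by
      linear_combination hWy - hWx
    exact sub_eq_zero.mp ((mul_eq_zero.mp this).resolve_left (sub_ne_zero.mpr hxy))
  have hW10 : (W : Matrix (Fin 2) (Fin 2) F) 1 0 = 0 := by rw [hWx, hdiag, sub_self, mul_zero]
  have hW1 : π W = 1 := (QuotientGroup.eq_one_iff W).mpr
    (mem_center_iff_entries.mpr ⟨hW01, hW10, hdiag⟩)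
  have haH : a ∈ H := by
    have : a⁻¹ * π W ∈ H := hw
    rwa [hW1, mul_one, H.inv_mem_iff] at this
  have := hle haH
  rw [ha, ← toPSL_conj, mem_borel_iff, haM] at this
  simp [coe_mk2] at this

/-- Regular elements of `PSL₂`. -/
theorem exists_lift_regular (p : ℕ) [Fact p.Prime] [CharP F p] {c : PS F} (h2 : 2 < orderOf c)
    (hp : ¬ p ∣ orderOf c) :
    ∃ L : SL2, π L = c ∧ (L : Matrix (Fin 2) (Fin 2) F).trace ^ 2 ≠ 4 ∧
      (L : Matrix (Fin 2) (Fin 2) F).trace ≠ 0 :=
  exists_regular_lift p c h2 fun h => by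
    rcases (Nat.dvd_prime Fact.out).mp h with h' | h'
    · omega
    · exact hp h'.symm.dvd

/-- Conjugates of a cyclic subgroup of odd order prime to `p` meet trivially. -/
theorem cyclic_ti (p : ℕ) [Fact p.Prime] [CharP F p] {H : Subgroup (PS F)} [IsCyclic H]
    (hodd : Odd (Nat.card H)) (hp : ¬ p ∣ Nat.card H) {g w : PS F} (hw : w ∈ H) (hw1 : w ≠ 1)
    (hg : g⁻¹ * w * g ∈ H) : H.map (MulAut.conj g).toMonoidHom = H := by
  have hdvd : orderOf w ∣ Nat.card H := by
    rw [← Subgroup.orderOf_mk w hw]; exact orderOf_dvd_natCard _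
  have h2 : 2 < orderOf w := by
    have hpos := orderOf_pos w
    have h1 : orderOf w ≠ 1 := fun h => hw1 (orderOf_eq_one_iff.mp h)
    have : orderOf w ≠ 2 := fun h => by
      rw [h] at hdvd
      rcases hodd with ⟨j, hj⟩
      omega
    omega
  obtain ⟨L, rfl, hreg, ht⟩ := exists_lift_regular p h2 fun h => hp (h.trans hdvd)
  haveI := (centralizer_toPSL hreg ht).2
  have hle : ∀ K : Subgroup (PS F), (∀ a ∈ K, ∀ b ∈ K, a * b = b * a) → π L ∈ K →
      K ≤ Subgroup.centralizer ({π L} : Set (PS F)) := fun K hK hm x hx =>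
    Subgroup.mem_centralizer_singleton_iff.mpr (hK x hx _ hm)
  have hcomm : ∀ a ∈ H, ∀ b ∈ H, a * b = b * a := fun a ha b hb => by
    letI : CommGroup H := IsCyclic.commGroup
    exact congrArg Subtype.val (mul_comm (⟨a, ha⟩ : H) ⟨b, hb⟩)
  have h1 := hle H hcomm hw
  have h2' := hle (H.map (MulAut.conj g).toMonoidHom) (by
    rintro _ ⟨a, ha, rfl⟩ _ ⟨b, hb, rfl⟩
    rw [← map_mul, ← map_mul, hcomm a ha b hb]) ⟨_, hg, by simp [mul_assoc]⟩
  set C := Subgroup.centralizer ({π L} : Set (PS F))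
  have key : ∀ K : Subgroup (PS F), K ≤ C → Nat.card K = Nat.card H →
      K = H := by
    intro K hK hcard
    refine Subgroup.eq_of_le_of_card_ge (fun x hx => ?_) hcard.ge
    by_contra hxH
    letI := Fintype.ofFinite C
    have hle' := IsCyclic.card_pow_eq_one_le (α := C) (Nat.card_pos (α := H))
    have hpow : ∀ z (K' : Subgroup (PS F)), z ∈ K' → Nat.card K' = Nat.card H →
        z ^ Nat.card H = 1 := fun z K' hz e => by
      have := pow_card_eq_one' (x := (⟨z, hz⟩ : K'))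
      rw [e] at this
      exact congrArg Subtype.val this
    let S : Finset C := insert ⟨x, hK hx⟩ ((Finset.univ : Finset C).filter fun z => (z : PS F) ∈ H)
    have hsub : S ⊆ Finset.univ.filter fun z : C => z ^ Nat.card H = 1 := by
      intro z hz
      refine Finset.mem_filter.mpr ⟨Finset.mem_univ _, Subtype.ext ?_⟩
      rw [Subgroup.coe_pow]
      rcases Finset.mem_insert.mp hz with rfl | hz
      · exact hpow x K hx hcard
      · exact hpow _ H (Finset.mem_filter.mp hz).2 rfl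
    have hcS : S.card = Nat.card H + 1 := by
      rw [Finset.card_insert_of_notMem (by simpa using hxH)]
      congr 1
      rw [← Fintype.card_subtype, ← Nat.card_eq_fintype_card]
      exact Nat.card_congr ((Equiv.subtypeSubtypeEquivSubtype fun h => h1 h))
    have := Finset.card_le_card hsub
    omega
  exact key _ h2' (card_map_conj g H)

/-- Cyclic subgroups of odd order prime to `p` give non-binary actions, with one exception. -/
theorem cyclic_case (p : ℕ) [Fact p.Prime] [CharP F p] {H : Subgroup (PS F)} [IsCyclic H]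
    (hb : IsBinary H) (hodd : Odd (Nat.card H)) (h3 : 3 ≤ Nat.card H) (hp : ¬ p ∣ Nat.card H) :
    p = 2 ∧ Nat.card H = 3 := by
  obtain ⟨c₀, hc₀⟩ := IsCyclic.exists_ofOrder_eq_natCard (α := H)
  set c : PS F := (c₀ : PS F) with hc
  have hco : orderOf c = Nat.card H := by rw [hc, Subgroup.orderOf_coe, hc₀]
  obtain ⟨L₀, hL₀, hreg₀, ht₀⟩ := exists_lift_regular p (c := c) (by omega) (hco ▸ hp)
  by_cases hexc : (2 : F) = 0 ∧ (L₀ : Matrix (Fin 2) (Fin 2) F).trace = 1
  · obtain ⟨h2, h1⟩ := hexc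
    refine ⟨?_, ?_⟩
    · have : ((2 : ℕ) : F) = 0 := by exact_mod_cast h2
      exact (Nat.prime_dvd_prime_iff_eq Fact.out Nat.prime_two).mp
        ((CharP.cast_eq_zero_iff F p 2).mp this)
    · have hpow : π L₀ ^ 3 = 1 := by
        show (QuotientGroup.mk L₀ : PS F) ^ 3 = 1
        rw [← QuotientGroup.mk_pow, QuotientGroup.eq_one_iff]
        refine mem_center_of_scalar (-1) ?_
        rw [Matrix.SpecialLinearGroup.coe_pow, pow_succ, pow_two, mul_self_eq, h1, one_smul, sub_mul,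
          one_mul, mul_self_eq, h1, one_smul, map_neg, map_one]
        abel
      have := orderOf_le_of_pow_eq_one (x := c) (n := 3) (by norm_num) (hL₀ ▸ hpow)
      omega
  exfalso
  obtain ⟨L, hL, hreg, ht, ht1⟩ : ∃ L : SL2, π L = c ∧
      (L : Matrix (Fin 2) (Fin 2) F).trace ^ 2 ≠ 4 ∧ (L : Matrix (Fin 2) (Fin 2) F).trace ≠ 0 ∧
      (L : Matrix (Fin 2) (Fin 2) F).trace ≠ -1 := by
    by_cases h : (L₀ : Matrix (Fin 2) (Fin 2) F).trace = -1
    · have h2 : (2 : F) ≠ 0 := fun h2 => hexc ⟨h2, by linear_combination h - h2⟩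
      refine ⟨-L₀, (toPSL_eq_of_neg (by rw [Matrix.SpecialLinearGroup.coe_neg])).trans hL₀, ?_, ?_, ?_⟩ <;>
        rw [Matrix.SpecialLinearGroup.coe_neg, Matrix.trace_neg]
      · rwa [neg_sq]
      · rwa [neg_ne_zero]
      · rw [h, neg_neg]
        exact fun e => h2 (by linear_combination e)
    · exact ⟨L₀, hL₀, hreg₀, ht₀, h⟩
  have hLc : L ∉ Subgroup.center SL2 := fun h => hreg (trace_sq_of_mem_center h)
  obtain ⟨U, V, hUV⟩ := exists_factor L L hreg hLc (soluble_of_regular _ _ hreg)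
  set a := π V * c * (π V)⁻¹ with ha
  set b := π U * c * (π U)⁻¹ with hb'
  have hba : b * a = c := by
    rw [ha, hb', ← hL, ← toPSL_conj, ← toPSL_conj, ← toPSL_mul, ← hUV]
  have haH : a ∉ H := by
    intro haH
    letI : CommGroup H := IsCyclic.commGroup
    have hcomm : π (V * L * V⁻¹) * π L = π L * π (V * L * V⁻¹) := by
      rw [toPSL_conj, hL, ← ha]
      exact congrArg Subtype.val (mul_comm (⟨a, haH⟩ : H) c₀)
    have htr := trace_mul_mul_inv (G := V) L
    have key : U * L * U⁻¹ = L * (V * L * V⁻¹)⁻¹ := eq_mul_inv_of_mul_eq hUV.symm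
    rcases eq_or_inv_of_trace_eq hreg (mem_torus_of_commute ht hcomm) htr with h | h
    · rw [h, mul_inv_cancel] at key
      exact hLc (by
        rw [show L = U⁻¹ * (U * L * U⁻¹) * U by group, key, mul_one, inv_mul_cancel]
        exact one_mem _)
    · rw [h, inv_inv] at key
      have := congrArg (fun M : SL2 => (M : Matrix (Fin 2) (Fin 2) F).trace) key
      simp only [trace_mul_mul_inv] at this
      rw [Matrix.SpecialLinearGroup.coe_mul, mul_self_eq, Matrix.trace_sub, Matrix.trace_smul,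
        Matrix.trace_one, Fintype.card_fin, smul_eq_mul] at this
      push_cast at this
      have h0 : ((L : Matrix (Fin 2) (Fin 2) F).trace - 2) *
          ((L : Matrix (Fin 2) (Fin 2) F).trace + 1) = 0 := by linear_combination -this
      rcases mul_eq_zero.mp h0 with h0 | h0
      · exact hreg (by linear_combination ((L : Matrix (Fin 2) (Fin 2) F).trace + 2) * h0)
      · exact ht1 (by linear_combination h0)
  obtain ⟨w, hwA, hwB, hw⟩ := exists_common_of_binary hb (a := a) (b := b) (hba ▸ c₀.2)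
    {π V} {π U}
    (fun g hg => by rw [Set.mem_singleton_iff] at hg; subst hg; simpa [ha, mul_assoc] using (show c ∈ H from c₀.2))
    (fun g hg => by rw [Set.mem_singleton_iff] at hg; subst hg; simpa [hb', mul_assoc] using (show c ∈ H from c₀.2))
  have h1 := hwA (π V) rfl
  have h2 := hwB (π U) rfl
  by_cases hw1 : w = 1
  · rw [hw1, mul_one, H.inv_mem_iff] at hw
    exact haH hw
  have hne : (π V)⁻¹ * w * π V ≠ 1 := fun e => hw1 (by
    calc w = π V * ((π V)⁻¹ * w * π V) * (π V)⁻¹ := by group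
      _ = 1 := by rw [e]; group)
  have he := cyclic_ti p hodd hp h1 hne (g := (π V)⁻¹ * π U) (by simpa [mul_assoc] using h2)
  have hmem : ∀ x ∈ H, (π V)⁻¹ * π U * x * ((π V)⁻¹ * π U)⁻¹ ∈ H := fun x hx => by
    have : (MulAut.conj ((π V)⁻¹ * π U)).toMonoidHom x ∈ H := he ▸ ⟨x, hx, rfl⟩
    exact this
  have hb2 : (π V)⁻¹ * b * π V ∈ H := by
    rw [hb']
    simpa [mul_assoc] using hmem c c₀.2
  have hc2 : (π V)⁻¹ * c * π V ∈ H := by
    have := mul_mem hb2 c₀.2
    rwa [show (π V)⁻¹ * b * π V * (c₀ : PS F) = (π V)⁻¹ * (b * a) * π V by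
      rw [ha, hc]; group, hba] at this
  have he2 := cyclic_ti p hodd hp c₀.2 (fun e => by
    rw [← hc] at e; rw [e, orderOf_one] at hco; omega) hc2
  apply haH
  have : (MulAut.conj (π V)).toMonoidHom c ∈ H := he2 ▸ ⟨c, c₀.2, rfl⟩
  exact this

/-- In characteristic two a subgroup with an involution contains a full Sylow subgroup. -/
theorem even_case (hchar : (2 : F) = 0) (h4 : 4 ≤ Fintype.card F) {H : Subgroup (PS F)}
    (hb : IsBinary H) {s : F} (hs : s ≠ 0) (hh : π (up s) ∈ H) : unip F ≤ H := by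
  intro u hu
  obtain ⟨α, rfl⟩ := mem_unip_iff.mp hu
  by_contra hα
  haveI : CharP F 2 := by
    obtain ⟨p, hc⟩ := CharP.exists F
    have hp := CharP.char_is_prime F p
    have : p = 2 := (Nat.prime_dvd_prime_iff_eq hp Nat.prime_two).mp
      ((CharP.cast_eq_zero_iff F p 2).mp (by exact_mod_cast hchar))
    exact this ▸ hc
  have hringchar : ringChar F = 2 := ringChar.eq F 2
  let W : Set F := {x | π (up x) ∈ H}
  have hWadd : ∀ x y, x ∈ W → y ∈ W → x + y ∈ W := fun x y hx hy => by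
    show π (up (x + y)) ∈ H
    rw [← toPSL_up_add]; exact mul_mem hx hy
  have hneg : ∀ x : F, -x = x := fun x => by linear_combination -x * hchar
  -- the data for one element
  have hfix : ∀ γ : F, γ ∉ W → ∀ w ∈ fixInter H (π (up γ)), ∃ β, π (up β) = w ∧
      ∀ z ∈ W, z ≠ 0 → β * z / γ ∈ W := by
    intro γ hγ w hw
    have hγ0 : γ ≠ 0 := fun h => hγ (by
      show π (up γ) ∈ H
      rw [h, up_zero]; exact one_mem _)
    have hsq : ∀ z : F, z ≠ 0 → ∃ t : Fˣ, (t : F) ^ 2 * γ = z := fun z hz => by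
      obtain ⟨t, ht⟩ := FiniteField.isSquare_of_char_two hringchar (z / γ)
      have ht0 : t ≠ 0 := fun h => by
        rw [h, mul_zero, div_eq_zero_iff] at ht
        tauto
      exact ⟨Units.mk0 t ht0, by rw [Units.val_mk0, pow_two, ← ht, div_mul_cancel₀ _ hγ0]⟩
    have hconj : ∀ z ∈ W, z ≠ 0 → ∃ t : Fˣ, (t : F) ^ 2 * γ = z ∧
        (π (dg t⁻¹))⁻¹ * π (up γ) * π (dg t⁻¹) ∈ H := fun z hz hz0 => by
      obtain ⟨t, ht⟩ := hsq z hz0
      refine ⟨t, ht, ?_⟩
      rw [← toPSL_inv, dg_inv, inv_inv, ← toPSL_mul, ← toPSL_mul, ← dg_inv, dg_conj_up, ht]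
      exact hz
    have hle : fixInter H (π (up γ)) ≤ unip F := by
      refine le_unip_of_normalized h4 (le_trans (fun x hx => ?_) (le_normalizer_fixInter H _)) ?_
      · obtain ⟨v, rfl⟩ := mem_unip_iff.mp hx
        rw [Subgroup.mem_centralizer_singleton_iff, toPSL_up_add, toPSL_up_add, add_comm]
      · intro hle
        obtain ⟨t, -, ht⟩ := hconj s hh hs
        have := hle (up_mem_unip (α / (t : F) ^ 2)) (π (dg t⁻¹)) ht
        rw [← toPSL_inv, dg_inv, inv_inv, ← toPSL_mul, ← toPSL_mul, ← dg_inv, dg_conj_up,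
          mul_div_cancel₀ _ (pow_ne_zero 2 t.ne_zero)] at this
        exact hα this
    obtain ⟨β, rfl⟩ := mem_unip_iff.mp (hle hw)
    refine ⟨β, rfl, fun z hz hz0 => ?_⟩
    obtain ⟨t, ht, ht'⟩ := hconj z hz hz0
    have := hw (π (dg t⁻¹)) ht'
    rw [← toPSL_inv, dg_inv, inv_inv, ← toPSL_mul, ← toPSL_mul, ← dg_inv, dg_conj_up] at this
    show π (up (β * z / γ)) ∈ H
    rw [← ht, show β * ((t : F) ^ 2 * γ) / γ = (t : F) ^ 2 * β by field_simp]
    exact this
  have hαs : α + s ∉ W := fun h => hα (by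
    have := hWadd _ _ h hh
    show α ∈ W
    rwa [show α + s + s = α by linear_combination s * hchar] at this)
  obtain ⟨w, hwa, hwb, hw⟩ := exists_mem_fixInter_of_binary hb
    (a := π (up α)) (b := π (up (α + s))) (by
      rw [toPSL_up_add, show α + s + α = s by linear_combination α * hchar]
      exact hh)
  obtain ⟨β, hβ, hk⟩ := hfix α hα w hwa
  obtain ⟨β', hβ', hk'⟩ := hfix (α + s) hαs w hwb
  have hββ : β' = β := by
    have h0 : π (up (β' + β)) = 1 := by
      rw [← toPSL_up_add, hβ', ← hβ, toPSL_up_add, show β + β = 0 by linear_combination β * hchar,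
        up_zero]
      rfl
    linear_combination up_eq_one h0 - β * hchar
  subst hββ
  by_cases hβ0 : β' = 0
  · rw [← hβ, hβ0, up_zero] at hw
    have : (π (up α))⁻¹ * 1 ∈ H := hw
    rw [mul_one, H.inv_mem_iff] at this
    exact hα this
  set d := β' / α - β' / (α + s) with hd
  have hα0 : α ≠ 0 := fun h => hα (by rw [h, up_zero]; exact one_mem _)
  have hαs0 : α + s ≠ 0 := fun h => hαs (by
    show π (up (α + s)) ∈ H
    rw [h, up_zero]; exact one_mem _)
  have hW0 : (0 : F) ∈ W := by show π (up 0) ∈ H; rw [up_zero]; exact one_mem _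
  have hdW : ∀ z ∈ W, d * z ∈ W := fun z hz => by
    rcases eq_or_ne z 0 with rfl | hz0
    · rwa [mul_zero]
    · have e : d * z = β' * z / α + β' * z / (α + s) := by
        rw [hd, sub_eq_add_neg, hneg]; ring
      rw [e]
      exact hWadd _ _ (hk z hz hz0) (hk' z hz hz0)
  have hdpow : ∀ n : ℕ, ∀ z ∈ W, d ^ n * z ∈ W := by
    intro n
    induction n with
    | zero => intro z hz; rwa [pow_zero, one_mul]
    | succ n ih => intro z hz; rw [pow_succ, mul_assoc]; exact ih _ (hdW z hz)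
  have hd' : d = β' * s / (α * (α + s)) := by rw [hd]; field_simp; ring
  have hd0 : d ≠ 0 := by
    rw [hd']; exact div_ne_zero (mul_ne_zero hβ0 hs) (mul_ne_zero hα0 hαs0)
  have hinv : d ^ (Fintype.card F - 2) = d⁻¹ := by
    refine eq_inv_of_mul_eq_one_left ?_
    rw [← pow_succ, show Fintype.card F - 2 + 1 = Fintype.card F - 1 by omega,
      FiniteField.pow_card_sub_one_eq_one d hd0]
  apply hα
  have := hdpow (Fintype.card F - 2) _ (hk' s hh hs)
  rw [hinv, hd'] at this
  show α ∈ W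
  convert this using 1
  field_simp

/-- An element commuting with two commuting involutions lies in their four-group. -/
theorem mem_four_group (h2 : (2 : F) ≠ 0) {a h x : PS F} (ha : orderOf a = 2) (hh : orderOf h = 2)
    (hne : a ≠ h) (hc : a * h = h * a) (hxa : x * a = a * x) (hxh : x * h = h * x) :
    x = 1 ∨ x = a ∨ x = h ∨ x = a * h := by
  obtain ⟨X, rfl⟩ := QuotientGroup.mk_surjective a
  obtain ⟨Y, rfl⟩ := QuotientGroup.mk_surjective h
  obtain ⟨L, rfl⟩ := QuotientGroup.mk_surjective x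
  have hX := (orderOf_two_iff h2 X).mp ha
  have hY := (orderOf_two_iff h2 Y).mp hh
  have hsign : ∀ A B : SL2, π A * π B = π B * π A →
      (A : Matrix (Fin 2) (Fin 2) F) * B = B * A ∨
        (A : Matrix (Fin 2) (Fin 2) F) * B = -((B : Matrix (Fin 2) (Fin 2) F) * A) := fun A B hAB => by
    rcases mk_eq_cases (show π (B * A) = π (A * B) from hAB.symm) with e | e
    · exact Or.inl (congrArg (fun M : SL2 => (M : Matrix (Fin 2) (Fin 2) F)) e)
    · exact Or.inr e
  have hanti : (Y : Matrix (Fin 2) (Fin 2) F) * X = -((X : Matrix (Fin 2) (Fin 2) F) * Y) := by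
    refine (hsign Y X hc.symm).resolve_left fun e => ?_
    have hYT : Y ∈ Subgroup.centralizer ({X} : Set SL2) :=
      Subgroup.mem_centralizer_singleton_iff.mpr (sl_ext e)
    rcases eq_or_inv_of_trace_eq (trace_sq_ne_four h2 hX) hYT (hY.trans hX.symm) with rfl | rfl
    · exact hne rfl
    · refine hne ((QuotientGroup.eq (s := Subgroup.center SL2)).mpr ?_)
      rw [← _root_.mul_inv_rev]
      exact inv_mem (mul_self_mem_center hX)
  set A := (X : Matrix (Fin 2) (Fin 2) F)
  set B := (Y : Matrix (Fin 2) (Fin 2) F)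
  have central : ∀ K : SL2, (K : Matrix (Fin 2) (Fin 2) F) * A = A * K →
      (K : Matrix (Fin 2) (Fin 2) F) * B = B * K → π K = 1 := fun K h1 h3 => by
    have hA : IsUnit A.det := by rw [X.det_coe]; exact isUnit_one
    have hB : IsUnit B.det := by rw [Y.det_coe]; exact isUnit_one
    refine (QuotientGroup.eq_one_iff K).mpr (mem_center_of_scalar
      ((K : Matrix (Fin 2) (Fin 2) F).trace / 2) ?_)
    rw [scalar_of_commute h2 hX hA hB hanti h1 h3, Matrix.scalar_apply, ← Matrix.smul_one_eq_diagonal]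
    simp [Matrix.trace_smul]
    field_simp
  have hinvX : (π X)⁻¹ = π X :=
    inv_eq_of_mul_eq_one_right (by rw [← pow_two]; exact orderOf_dvd_iff_pow_eq_one.mp (by rw [ha]))
  have hinvY : (π Y)⁻¹ = π Y :=
    inv_eq_of_mul_eq_one_right (by rw [← pow_two]; exact orderOf_dvd_iff_pow_eq_one.mp (by rw [hh]))
  rcases hsign L X hxa with e1 | e1 <;> rcases hsign L Y hxh with e3 | e3
  · exact Or.inl (central L e1 e3)
  · refine Or.inr (Or.inl ?_)
    have := central (L * X) (by rw [Matrix.SpecialLinearGroup.coe_mul, e1, mul_assoc, ← e1, ← mul_assoc]) (by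
      rw [Matrix.SpecialLinearGroup.coe_mul, mul_assoc, ← neg_eq_iff_eq_neg.mpr hanti, mul_neg,
        ← mul_assoc, e3, neg_mul, neg_neg, mul_assoc])
    show π L = π X
    rw [← hinvX]
    exact eq_inv_of_mul_eq_one_left this
  · refine Or.inr (Or.inr (Or.inl ?_))
    have := central (L * Y) (by
      rw [Matrix.SpecialLinearGroup.coe_mul, mul_assoc, hanti, mul_neg, ← mul_assoc, e1, neg_mul,
        neg_neg, mul_assoc]) (by rw [Matrix.SpecialLinearGroup.coe_mul, e3, mul_assoc, ← e3, ← mul_assoc])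
    show π L = π Y
    rw [← hinvY]
    exact eq_inv_of_mul_eq_one_left this
  · refine Or.inr (Or.inr (Or.inr ?_))
    have hAB : A * B = -(B * A) := by rw [hanti, neg_neg]
    have := central (L * (X * Y)) (by
      rw [Matrix.SpecialLinearGroup.coe_mul, Matrix.SpecialLinearGroup.coe_mul, mul_assoc, mul_assoc A,
        hanti, mul_neg, mul_neg, ← mul_assoc _ A, e1, neg_mul, neg_neg, mul_assoc]) (by
      rw [Matrix.SpecialLinearGroup.coe_mul, Matrix.SpecialLinearGroup.coe_mul, mul_assoc, hAB,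
        neg_mul, mul_neg, mul_assoc B A B, ← mul_assoc _ B, e3, neg_mul, neg_neg, hAB]
      simp only [A, B, mul_assoc, mul_neg, neg_mul])
    have e : π L * (π X * π Y) = 1 := this
    show π L = π X * π Y
    rw [eq_inv_of_mul_eq_one_left e, _root_.mul_inv_rev, hinvX, hinvY]
    exact hc.symm

/-- With small fixers, commuting involutions are in `H` together. -/
theorem klein_case (h2 : (2 : F) ≠ 0) {H : Subgroup (PS F)} (hb : IsBinary H)
    (hS : ∀ a : PS F, orderOf a = 2 → fixInter H a ≤ Subgroup.centralizer {a}) {h a : PS F}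
    (hh : h ∈ H) (hho : orderOf h = 2) (hao : orderOf a = 2) (hcomm : a * h = h * a) : a ∈ H := by
  by_cases hne : a = h
  · exact hne ▸ hh
  obtain ⟨z, hza, hzh⟩ := exists_cycle h2 hao hho hne hcomm
  obtain ⟨b, hb'⟩ : ∃ b, b = a * h := ⟨_, rfl⟩
  rw [← hb'] at hzh
  have hbo : orderOf b = 2 := by
    rw [← hzh]
    exact ((orderOf_injective (MulAut.conj z).toMonoidHom (MulAut.conj z).injective h).trans hho)
  have haa : a * a = 1 := by rw [← pow_two]; exact orderOf_dvd_iff_pow_eq_one.mp (by rw [hao])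
  have hhh : h * h = 1 := by rw [← pow_two]; exact orderOf_dvd_iff_pow_eq_one.mp (by rw [hho])
  have hzb : z * b * z⁻¹ = a := by
    rw [hb']
    calc z * (a * h) * z⁻¹ = (z * a * z⁻¹) * (z * h * z⁻¹) := by group
      _ = h * (a * h) := by rw [hza, hzh, hb']
      _ = a * (h * h) := by rw [← mul_assoc, ← hcomm, mul_assoc]
      _ = a := by rw [hhh, mul_one]
  have hfix_h : ∀ v : PS F, v ∈ fixInter H h → v ∈ H := fun v hv => by
    simpa using hv 1 (by simpa using hh)
  have hba : b * a ∈ H := by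
    rw [hb', hcomm, mul_assoc, haa, mul_one]; exact hh
  obtain ⟨w, hwa, hwb, hw⟩ := exists_mem_fixInter_of_binary hb hba
  have hba' : b * a = a * b := by
    rw [hb', ← mul_assoc, haa, one_mul, hcomm, mul_assoc, haa, mul_one]
  have hab : a ≠ b := fun e => by
    have : h = 1 := mul_left_cancel (a := a) (by rw [mul_one, ← hb']; exact e.symm)
    rw [this, orderOf_one] at hho; omega
  have hfromb : b ∈ H → a ∈ H := fun h' => by
    have := mul_mem h' hh
    rwa [hb', mul_assoc, hhh, mul_one] at this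
  rcases mem_four_group h2 hao hbo hab hba'.symm
      (Subgroup.mem_centralizer_singleton_iff.mp (hS a hao hwa))
      (Subgroup.mem_centralizer_singleton_iff.mp (hS b hbo hwb)) with e | e | e | e
  · rw [e, mul_one, H.inv_mem_iff] at hw
    exact hw
  · rw [e] at hwb
    have h1 := conj_mem_fixInter z hwb
    rw [hzb, hza] at h1
    have h3 := conj_mem_fixInter z h1
    rw [hza, hzh] at h3
    exact hfromb (hfix_h b h3)
  · rw [e] at hwa
    have h1 := conj_mem_fixInter z hwa
    rw [hza, hzb] at h1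
    exact hfix_h a h1
  · rw [e, ← mul_assoc, inv_mul_cancel, one_mul] at hw
    exact hfromb hw

end CfsgLib.PSL2Sub.Binary
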