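import Cfsg.Agent.Lib.PSL2Sub.Binary.Common

/-!
The fields with seven and nine elements: no binary action with an involution in the stabiliser.
-/

set_option autoImplicit false
set_option linter.unusedSectionVars false

namespace CfsgLib.PSL2Sub.Binary

open Matrix CfsgLib.SL2Trace
theorem alt_four_orders : ∀ u : alternatingGroup (Fin 4), u * u = 1 ∨ u ^ 3 = 1 := by
  decide +kernel

theorem alt_four_conj_two : ∀ u v : alternatingGroup (Fin 4), u * u = 1 → u ≠ 1 → v * v = 1 →
    v ≠ 1 → ∃ z, z * u * z⁻¹ = v := by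
  decide +kernel

theorem alt_four_conj_three : ∀ u v : alternatingGroup (Fin 4), u ^ 3 = 1 → u ≠ 1 → v ^ 3 = 1 →
    v ≠ 1 → ∃ z, z * u * z⁻¹ = v ∨ z * u * z⁻¹ = v⁻¹ := by
  decide +kernel

theorem alt_four_fixed : ∀ u : alternatingGroup (Fin 4), u ^ 3 = 1 →
    ∃ i : Fin 4, (u : Equiv.Perm (Fin 4)) i = i := by
  decide +kernel

set_option synthInstance.maxSize 2000 in
theorem alt_four_same_fixed : ∀ u v : alternatingGroup (Fin 4), u ^ 3 = 1 → u ≠ 1 → v ^ 3 = 1 →
    v ≠ 1 → ∀ i : Fin 4, (u : Equiv.Perm (Fin 4)) i = i → (v : Equiv.Perm (Fin 4)) i = i →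
      u = v ∨ u = v⁻¹ := by
  decide +kernel

theorem sym_four_swap_centralizer :
    Fintype.card {u : Equiv.Perm (Fin 4) //
      u * Equiv.swap 0 1 = Equiv.swap 0 1 * u} = 4 := by
  decide +kernel

open scoped Classical

section Groups

variable {G : Type*} [Group G] [Finite G]

/-- A group of order eight and a 2-subgroup it normalises. -/
theorem le_of_two_group (h16 : ¬ 16 ∣ Nat.card G) {S P : Subgroup G} (hP : Nat.card P = 8)
    (hN : P ≤ Subgroup.normalizer (S : Set G)) (hS : Nat.card S ∣ 8) : S ≤ P := by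
  obtain ⟨k, -, hk⟩ := (Nat.dvd_prime_pow Nat.prime_two).mp (show Nat.card S ∣ 2 ^ 3 from hS)
  have h2P : IsPGroup 2 P := IsPGroup.of_card (n := 3) (by rw [hP]; norm_num)
  have h2S : IsPGroup 2 S := IsPGroup.of_card (n := k) hk
  haveI : Fact (Nat.Prime 2) := ⟨Nat.prime_two⟩
  obtain ⟨m, hm⟩ := IsPGroup.iff_card.mp (h2P.to_sup_of_normal_right' h2S hN)
  have hm3 : m ≤ 3 := by
    by_contra h
    exact h16 ((Dvd.intro (2 ^ (m - 4)) (show 16 * 2 ^ (m - 4) = 2 ^ m by
      rw [show (16 : ℕ) = 2 ^ 4 by norm_num, ← pow_add]; congr 1; omega)).trans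
      (hm ▸ Subgroup.card_subgroup_dvd_card _))
  have he : P = P ⊔ S := Subgroup.eq_of_le_of_card_ge le_sup_left (by
    rw [hm, hP, show (8 : ℕ) = 2 ^ 3 by norm_num]
    exact Nat.pow_le_pow_right two_pos hm3)
  exact he ▸ le_sup_right

/-- A group of order eight cannot normalise a subgroup of order three or five with small
centraliser. -/
theorem not_normalised {P : Subgroup G} (hP : Nat.card P = 8) {x : G}
    (hr : orderOf x = 3 ∨ orderOf x = 5)
    (hC : Nat.card (Subgroup.centralizer ({x} : Set G)) ≤ 5)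
    (hN : ∀ y ∈ P, y * x * y⁻¹ ∈ Subgroup.zpowers x) : False := by
  haveI := Fintype.ofFinite G
  let f : P → Subgroup.zpowers x := fun y => ⟨_, hN y.1 y.2⟩
  obtain ⟨y1, y2, hne, he⟩ := Fintype.exists_ne_map_eq_of_card_lt f (by
    rw [← Nat.card_eq_fintype_card, ← Nat.card_eq_fintype_card, Nat.card_zpowers, hP]
    omega)
  have he' : (y1 : G) * x * (y1 : G)⁻¹ = (y2 : G) * x * (y2 : G)⁻¹ := congrArg Subtype.val he
  set y : P := y2⁻¹ * y1 with hy
  have hyx : (y : G) ∈ Subgroup.centralizer ({x} : Set G) := by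
    rw [Subgroup.mem_centralizer_singleton_iff, hy, Subgroup.coe_mul, Subgroup.coe_inv]
    calc (y2 : G)⁻¹ * y1 * x = (y2 : G)⁻¹ * ((y1 : G) * x * (y1 : G)⁻¹) * y1 := by group
      _ = x * ((y2 : G)⁻¹ * y1) := by rw [he']; group
  have hy1 : y ≠ 1 := fun h => hne (by rw [hy, inv_mul_eq_one] at h; exact h.symm)
  have hd2 : orderOf y ∣ 8 := hP ▸ orderOf_dvd_natCard y
  have hd : orderOf y ∣ Nat.card (Subgroup.centralizer ({x} : Set G)) := by
    rw [← Subgroup.orderOf_coe y, ← Subgroup.orderOf_mk (y : G) hyx]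
    exact orderOf_dvd_natCard _
  have hdx : orderOf x ∣ Nat.card (Subgroup.centralizer ({x} : Set G)) := by
    rw [← Subgroup.orderOf_mk x (Subgroup.mem_centralizer_singleton_iff.mpr rfl)]
    exact orderOf_dvd_natCard _
  have h1 : orderOf y ≠ 1 := fun h => hy1 (orderOf_eq_one_iff.mp h)
  have h2 : 2 ∣ orderOf y := by
    obtain ⟨k, -, hk⟩ := (Nat.dvd_prime_pow Nat.prime_two).mp (show orderOf y ∣ 2 ^ 3 from hd2)
    rw [hk] at h1 ⊢
    exact dvd_pow_self 2 (fun h => h1 (by rw [h, pow_zero]))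
  have hpos : 0 < Nat.card (Subgroup.centralizer ({x} : Set G)) := Nat.card_pos
  have h2' := h2.trans hd
  rcases hr with hr | hr <;> rw [hr] at hdx <;> omega

/-- A proper overgroup in a simple group of order 168 of a subgroup of order 24. -/
theorem eq_top_of_twenty_four {H K : Subgroup G} (hG : Nat.card G = 168) (hH : Nat.card H = 24)
    (hle : H ≤ K) {g : G} (hg : g ∈ K) (hgH : g ∉ H) : K = ⊤ := by
  obtain ⟨j, hj⟩ := hH ▸ Subgroup.card_dvd_of_le hle
  have hd : j ∣ 7 := Nat.dvd_of_mul_dvd_mul_left (show 0 < 24 by norm_num)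
    (by rw [← hj, show 24 * 7 = 168 by norm_num, ← hG]; exact Subgroup.card_subgroup_dvd_card K)
  rcases (Nat.dvd_prime (by norm_num)).mp hd with rfl | rfl
  · exact absurd ((Subgroup.eq_of_le_of_card_ge hle (by omega)).symm ▸ hg) hgH
  · exact Subgroup.eq_top_of_le_card _ (by omega)

end Groups

variable {F : Type*} [Field F] [Fintype F]

/-- Every involution centralises a group of order eight. -/
theorem exists_eight (h2 : (2 : F) ≠ 0) (h8 : 8 ∣ Nat.card (PS F)) (a : PS F) (ha : orderOf a = 2) :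
    ∃ P : Subgroup (PS F), Nat.card P = 8 ∧ P ≤ Subgroup.centralizer {a} := by
  haveI : Fact (Nat.Prime 2) := ⟨Nat.prime_two⟩
  obtain ⟨P, hP⟩ := Sylow.exists_subgroup_card_pow_prime 2 (n := 3)
    (show 2 ^ 3 ∣ Nat.card (PS F) from h8)
  haveI : Nontrivial P := Finite.one_lt_card_iff_nontrivial.mp (by rw [hP]; norm_num)
  have hPp : IsPGroup 2 P := IsPGroup.of_card (n := 3) hP
  haveI := hPp.center_nontrivial
  obtain ⟨m, hm⟩ := IsPGroup.iff_card.mp (hPp.to_subgroup (Subgroup.center P))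
  obtain ⟨⟨z, hz⟩, hzo⟩ := exists_prime_orderOf_dvd_card' (G := Subgroup.center P) 2 (by
    have h1 : 1 < Nat.card (Subgroup.center P) := Finite.one_lt_card
    rw [hm] at h1 ⊢
    exact dvd_pow_self 2 (fun h => by simp [h] at h1))
  have hzo' : orderOf (z : PS F) = 2 := by
    exact (Subgroup.orderOf_coe z).trans ((Subgroup.orderOf_mk z hz).symm.trans hzo)
  obtain ⟨c, hc⟩ := isConj_iff.mp (isConj_involutions h2 (z : PS F) a hzo' ha)
  refine ⟨P.map (MulAut.conj c).toMonoidHom, by rw [card_map_conj, hP]; norm_num, ?_⟩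
  intro x hx
  rw [mem_map_conj_iff] at hx
  have hcomm := congrArg Subtype.val (Subgroup.mem_center_iff.mp hz ⟨_, hx⟩)
  simp only [Subgroup.coe_mul] at hcomm
  rw [Subgroup.mem_centralizer_singleton_iff, ← hc]
  calc x * (c * (z : PS F) * c⁻¹) = c * (c⁻¹ * x * c * z) * c⁻¹ := by group
    _ = c * (z * (c⁻¹ * x * c)) * c⁻¹ := by rw [hcomm]
    _ = c * (z : PS F) * c⁻¹ * x := by group

/-- Tori are small in the small fields. -/
theorem centralizer_le_five (p : ℕ) [Fact p.Prime] [CharP F p] (h2 : (2 : F) ≠ 0)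
    (h9 : Fintype.card F ≤ 9) {x : PS F} (hx : 2 < orderOf x) (hp : ¬ p ∣ orderOf x) :
    Nat.card (Subgroup.centralizer ({x} : Set (PS F))) ≤ 5 := by
  obtain ⟨L, rfl, hreg, ht⟩ := exists_lift_regular p hx hp
  have := two_mul_card_centralizer_le h2 hreg ht
  omega

/-- A small subgroup normalised by a group of order eight. -/
theorem small_fix (p : ℕ) [Fact p.Prime] [CharP F p] (h2 : (2 : F) ≠ 0) (h9 : Fintype.card F ≤ 9)
    (h16 : ¬ 16 ∣ Nat.card (PS F)) {S P : Subgroup (PS F)} {a : PS F} (hP : Nat.card P = 8)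
    (hPa : P ≤ Subgroup.centralizer {a}) (hN : P ≤ Subgroup.normalizer (S : Set (PS F)))
    (hp : ¬ p ∣ Nat.card S)
    (hS : Nat.card S = 2 ∨ Nat.card S = 4 ∨ Nat.card S = 6 ∨ Nat.card S = 8 ∨ Nat.card S = 10) :
    S ≤ Subgroup.centralizer {a} := by
  by_cases h8 : Nat.card S ∣ 8
  · exact (le_of_two_group h16 hP hN h8).trans hPa
  exfalso
  obtain ⟨r, hr, hSr⟩ : ∃ r, (r = 3 ∨ r = 5) ∧ Nat.card S = 2 * r := by
    rcases hS with h | h | h | h | h
    · exact absurd (by rw [h]; norm_num) h8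
    · exact absurd (by rw [h]; norm_num) h8
    · exact ⟨3, Or.inl rfl, h⟩
    · exact absurd (by rw [h]) h8
    · exact ⟨5, Or.inr rfl, h⟩
  haveI : Fact r.Prime := ⟨by rcases hr with rfl | rfl <;> norm_num⟩
  obtain ⟨x₀, hx₀⟩ := exists_prime_orderOf_dvd_card' (G := S) r (hSr ▸ dvd_mul_left r 2)
  have hxo : orderOf (x₀ : PS F) = r := by rw [Subgroup.orderOf_coe, hx₀]
  refine not_normalised hP (hxo ▸ hr) (centralizer_le_five p h2 h9 (x := (x₀ : PS F))
    (by rcases hr with rfl | rfl <;> omega)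
    (fun h => hp (h.trans (by rw [hxo, hSr]; exact dvd_mul_left r 2)))) fun y hy => ?_
  have hmem : y * (x₀ : PS F) * y⁻¹ ∈ S :=
    (Subgroup.mem_normalizer_iff.mp (hN hy) _).mp x₀.2
  set z : S := ⟨_, hmem⟩ with hz
  have hi : (Subgroup.zpowers x₀).index = 2 := by
    have := (Subgroup.zpowers x₀).card_mul_index
    rw [Nat.card_zpowers, hx₀, hSr, mul_comm 2] at this
    exact Nat.eq_of_mul_eq_mul_left (Fact.out : r.Prime).pos this
  have hzr : z ^ r = 1 := by
    refine Subtype.ext ?_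
    rw [Subgroup.coe_pow, hz, conj_pow, ← hxo, pow_orderOf_eq_one, mul_one, mul_inv_cancel,
      Subgroup.coe_one]
  have hzz : z ∈ Subgroup.zpowers x₀ := by
    have e : (z * z) ^ ((r + 1) / 2) = z := by
      rw [← pow_two, ← pow_mul, show 2 * ((r + 1) / 2) = r + 1 by
        rcases hr with rfl | rfl <;> norm_num, pow_succ, hzr, one_mul]
    rw [← e]
    exact pow_mem (Subgroup.mul_self_mem_of_index_two hi z) _
  obtain ⟨i, hi'⟩ := hzz
  exact ⟨i, by simpa using congrArg Subtype.val hi'⟩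

/-- Swallowing the centralisers of two commuting involutions is too much. -/
theorem false_of_eight (h2 : (2 : F) ≠ 0) (h8 : 8 ∣ Nat.card (PS F)) {H : Subgroup (PS F)}
    (hb : IsBinary H) (hS : ∀ a : PS F, orderOf a = 2 → fixInter H a ≤ Subgroup.centralizer {a})
    {h : PS F} (hh : h ∈ H) (hho : orderOf h = 2) (hH : Nat.card H ≤ 10) : False := by
  obtain ⟨a, hao, hne, hc⟩ := exists_commuting h2 hho
  have haH : a ∈ H := klein_case h2 hb hS hh hho hao hc
  have key : ∀ u ∈ H, orderOf u = 2 → H ≤ Subgroup.centralizer {u} ∧ 8 ≤ Nat.card H := by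
    intro u hu huo
    obtain ⟨P, hP, hPu⟩ := exists_eight h2 h8 u huo
    have hle := hPu.trans (centralizer_le_subgroup h2 hb hS hu huo)
    obtain ⟨j, hj⟩ := Subgroup.card_dvd_of_le hle
    rw [hP] at hj
    have hpos : 0 < Nat.card H := Nat.card_pos
    refine ⟨?_, by omega⟩
    rw [← Subgroup.eq_of_le_of_card_ge hle (by omega)]
    exact hPu
  have h4 := card_le_four h2 hao hho hne hc (key a haH hao).1 (key h hh hho).1
  have := (key h hh hho).2
  omega

/-- The fixer of an involution moved by its centraliser. -/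
theorem small_of_moves (hG : IsSimpleGroup (PS F)) (h168 : Nat.card (PS F) = 168)
    {H : Subgroup (PS F)} (hH : Nat.card H = 12 ∨ Nat.card H = 24) {t g : PS F} (htH : t ∈ H)
    (hto : orderOf t = 2) (hgt : g ∈ Subgroup.centralizer {t})
    (hg : g ∉ Subgroup.normalizer (H : Set (PS F))) :
    let S := fixInter H t
    Nat.card S = 2 ∨ Nat.card S = 4 ∨ Nat.card S = 6 ∨ Nat.card S = 8 := by
  intro S
  have hle : S ≤ H := fun w hw => by simpa using hw 1 (by simpa using htH)
  have hgS : g ∈ Subgroup.normalizer (S : Set (PS F)) := le_normalizer_fixInter H t hgt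
  have htS : t ∈ S := self_mem_fixInter H t
  have hne : Nat.card S ≠ Nat.card H := fun e => hg (by
    rw [← Subgroup.eq_of_le_of_card_ge hle e.ge]; exact hgS)
  have h12 : Nat.card H = 24 → Nat.card S ≠ 12 := fun h24 e => by
    have hNle := eq_or_of_index_two hle (by omega)
    have htop := eq_top_of_twenty_four h168 h24 hNle hgS fun h => hg (Subgroup.le_normalizer h)
    rcases (Subgroup.normalizer_eq_top_iff.mp htop).eq_bot_or_eq_top with h | h
    · rw [h, Subgroup.mem_bot] at htS
      rw [htS, orderOf_one] at hto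
      omega
    · rw [h, Subgroup.card_top, h168] at e
      omega
  have hev : 2 ∣ Nat.card S := by
    have := orderOf_dvd_natCard (⟨t, htS⟩ : S)
    rwa [Subgroup.orderOf_mk, hto] at this
  have hdvd := Subgroup.card_dvd_of_le hle
  have hmem : Nat.card S ∈ (Nat.card H).divisors := Nat.mem_divisors.mpr ⟨hdvd, Nat.card_pos.ne'⟩
  rcases hH with h | h
  · rw [h, show (12 : ℕ).divisors = {1, 2, 3, 4, 6, 12} by decide] at hmem
    simp only [Finset.mem_insert, Finset.mem_singleton] at hmem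
    omega
  · rw [h, show (24 : ℕ).divisors = {1, 2, 3, 4, 6, 8, 12, 24} by decide] at hmem
    have := h12 h
    simp only [Finset.mem_insert, Finset.mem_singleton] at hmem
    omega

/-- The symmetric group of degree four in `PSL₂(7)`. -/
theorem sym_four_false (p : ℕ) [Fact p.Prime] [CharP F p] (h2 : (2 : F) ≠ 0)
    (h9 : Fintype.card F ≤ 9) (hG : IsSimpleGroup (PS F)) (h168 : Nat.card (PS F) = 168)
    {H : Subgroup (PS F)} (hb : IsBinary H) (hp : ¬ p ∣ Nat.card H)
    (e : H ≃* Equiv.Perm (Fin 4)) : False := by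
  have h8 : 8 ∣ Nat.card (PS F) := by rw [h168]; norm_num
  have h24 : Nat.card H = 24 := (Nat.card_congr e.toEquiv).trans card_sym_four
  set t₀ : H := e.symm (Equiv.swap 0 1) with ht₀
  set t : PS F := (t₀ : PS F) with ht
  have hto : orderOf t = 2 := by
    rw [ht, Subgroup.orderOf_coe, ht₀, MulEquiv.orderOf_eq]
    exact orderOf_eq_prime (by decide) (by decide)
  obtain ⟨P, hP, hPt⟩ := exists_eight h2 h8 t hto
  have hPH : ¬ P ≤ H := fun h => by
    have hmem : ∀ y : P, e ⟨y, h y.2⟩ * Equiv.swap 0 1 = Equiv.swap 0 1 * e ⟨y, h y.2⟩ := fun y => by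
      rw [show Equiv.swap (0 : Fin 4) 1 = e t₀ from (e.apply_symm_apply _).symm, ← map_mul, ← map_mul]
      exact congrArg e (Subtype.ext (Subgroup.mem_centralizer_singleton_iff.mp (hPt y.2)))
    have hle := Nat.card_le_card_of_injective
      (fun y : P => (⟨_, hmem y⟩ : {u : Equiv.Perm (Fin 4) //
        u * Equiv.swap 0 1 = Equiv.swap 0 1 * u})) fun y y' hyy => by
          exact Subtype.ext (congrArg (fun z : H => (z : PS F)) (e.injective (congrArg Subtype.val hyy)))
    rw [hP, Nat.card_eq_fintype_card, sym_four_swap_centralizer] at hle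
    omega
  obtain ⟨g, hgt, hg⟩ : ∃ g, g ∈ Subgroup.centralizer ({t} : Set (PS F)) ∧
      g ∉ Subgroup.normalizer (H : Set (PS F)) := by
    by_contra hall
    push Not at hall
    obtain ⟨y, hy, hyH⟩ := Set.not_subset.mp hPH
    have htop := eq_top_of_twenty_four h168 h24 Subgroup.le_normalizer (hall y (hPt hy)) hyH
    rcases (Subgroup.normalizer_eq_top_iff.mp htop).eq_bot_or_eq_top with h | h
    · rw [h, Subgroup.card_bot] at h24; omega
    · rw [h, Subgroup.card_top, h168] at h24; omega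
  have hcard := small_of_moves hG h168 (Or.inr h24) t₀.2 hto hgt hg
  have hfix := small_fix p h2 h9 (by rw [h168]; norm_num) hP hPt
    (hPt.trans (le_normalizer_fixInter H t))
    (fun h => hp (h.trans (Subgroup.card_dvd_of_le fun w hw => by simpa using hw 1 (by rw [inv_one, one_mul, mul_one]; exact t₀.2))))
    (by rcases hcard with h | h | h | h <;> rw [h] <;> norm_num)
  exact hPH (hPt.trans (centralizer_le_subgroup h2 hb (fix_le_of_one h2 hto hfix) t₀.2 hto))

/-- The alternating group of degree four in `PSL₂(7)`. -/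
theorem alt_four_false (p : ℕ) [Fact p.Prime] [CharP F p] (h2 : (2 : F) ≠ 0)
    (h9 : Fintype.card F ≤ 9) (hG : IsSimpleGroup (PS F)) (h168 : Nat.card (PS F) = 168)
    {H : Subgroup (PS F)} (hb : IsBinary H) (hp : ¬ p ∣ Nat.card H)
    (e : H ≃* alternatingGroup (Fin 4)) : False := by
  have h8 : 8 ∣ Nat.card (PS F) := by rw [h168]; norm_num
  have h12 : Nat.card H = 12 := (Nat.card_congr e.toEquiv).trans card_alt_four
  haveI : Fact (Nat.Prime 2) := ⟨Nat.prime_two⟩
  obtain ⟨h₀, hh₀⟩ := exists_prime_orderOf_dvd_card' (G := H) 2 (by rw [h12]; norm_num)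
  set h : PS F := (h₀ : PS F) with hh
  have hho : orderOf h = 2 := by rw [hh, Subgroup.orderOf_coe, hh₀]
  obtain ⟨P, hP, hPh⟩ := exists_eight h2 h8 h hho
  have hPH : ¬ P ≤ H := fun hle => by
    have := Subgroup.card_dvd_of_le hle
    rw [hP, h12] at this
    omega
  by_cases hM : ∀ u ∈ H, orderOf u = 2 →
      Subgroup.centralizer {u} ≤ Subgroup.normalizer (H : Set (PS F))
  swap
  · push Not at hM
    obtain ⟨u, hu, huo, hu'⟩ := hM
    obtain ⟨g, hgu, hg⟩ := Set.not_subset.mp hu'
    obtain ⟨Q, hQ, hQu⟩ := exists_eight h2 h8 u huo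
    have hcard := small_of_moves hG h168 (Or.inl h12) hu huo hgu hg
    have hfix := small_fix p h2 h9 (by rw [h168]; norm_num) hQ hQu
      (hQu.trans (le_normalizer_fixInter H u))
      (fun h' => hp (h'.trans (Subgroup.card_dvd_of_le fun w hw => by simpa using hw 1 (by simpa using hu))))
      (by rcases hcard with h' | h' | h' | h' <;> rw [h'] <;> norm_num)
    exact hPH (hPh.trans (centralizer_le_subgroup h2 hb (fix_le_of_one h2 huo hfix) h₀.2 hho))
  set N := Subgroup.normalizer (H : Set (PS F)) with hN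
  have hPN : P ≤ N := hPh.trans (hM h h₀.2 hho)
  -- the element `w` determines the conjugate of `H` that contains it
  have three : ∀ w ∈ H, w ≠ 1 → w ^ 3 = 1 → ∀ y : PS F,
      y * w * y⁻¹ = w ∨ y * w * y⁻¹ = w⁻¹ → y ∈ N := by
    intro w hw hw1 hw3
    have hwo : orderOf w = 3 := by
      haveI : Fact (Nat.Prime 3) := ⟨Nat.prime_three⟩
      exact orderOf_eq_prime hw3 hw1
    have hCH : ∀ y, y * w * y⁻¹ = w → y ∈ Subgroup.zpowers w := by
      intro y hy
      have hz : Subgroup.zpowers w ≤ Subgroup.centralizer {w} := by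
        rw [Subgroup.zpowers_le, Subgroup.mem_centralizer_singleton_iff]
      have hC := centralizer_le_five p h2 h9 (x := w) (by omega) (fun h' => hp (h'.trans
        (by rw [← Subgroup.orderOf_mk w hw]; exact orderOf_dvd_natCard _)))
      obtain ⟨j, hj⟩ := Subgroup.card_dvd_of_le hz
      rw [Nat.card_zpowers, hwo] at hj
      have hpos : 0 < Nat.card (Subgroup.centralizer ({w} : Set (PS F))) := Nat.card_pos
      rw [Subgroup.eq_of_le_of_card_ge hz (by rw [Nat.card_zpowers, hwo]; omega),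
        Subgroup.mem_centralizer_singleton_iff]
      exact mul_inv_eq_iff_eq_mul.mp hy
    obtain ⟨m, hmN, hm⟩ : ∃ m ∈ N, m * w * m⁻¹ = w⁻¹ := by
      let u : P → alternatingGroup (Fin 4) := fun y =>
        e ⟨_, (conj_mem_of_mem_normalizer (hPN y.2) hw).1⟩
      have hu3 : ∀ y, u y ^ 3 = 1 := fun y => by
        rw [← map_pow, map_eq_one_iff _ e.injective]
        refine Subtype.ext ?_
        rw [Subgroup.coe_pow, conj_pow, hw3, mul_one, mul_inv_cancel, Subgroup.coe_one]
      have hu1 : ∀ y, u y ≠ 1 := fun y hy => hw1 (by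
        rw [map_eq_one_iff _ e.injective] at hy
        have : (y : PS F) * w * (y : PS F)⁻¹ = 1 := congrArg Subtype.val hy
        calc w = (y : PS F)⁻¹ * ((y : PS F) * w * (y : PS F)⁻¹) * y := by group
          _ = 1 := by rw [this]; group)
      let f : P → Fin 4 := fun y => (alt_four_fixed (u y) (hu3 y)).choose
      obtain ⟨y1, y2, hne, he⟩ := Fintype.exists_ne_map_eq_of_card_lt f (by
        rw [← Nat.card_eq_fintype_card (α := P), hP, Fintype.card_fin]; norm_num)
      have hf : ∀ y, (u y : Equiv.Perm (Fin 4)) (f y) = f y := fun y =>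
        (alt_four_fixed (u y) (hu3 y)).choose_spec
      have hyy := alt_four_same_fixed (u y1) (u y2) (hu3 _) (hu1 _) (hu3 _) (hu1 _) (f y1) (hf y1)
        (he ▸ hf y2)
      set y : P := y2⁻¹ * y1 with hy
      refine ⟨y, hPN y.2, ?_⟩
      rw [hy, Subgroup.coe_mul, Subgroup.coe_inv]
      rcases hyy with h' | h'
      · exfalso
        have h'' : (y1 : PS F) * w * (y1 : PS F)⁻¹ = (y2 : PS F) * w * (y2 : PS F)⁻¹ :=
          congrArg Subtype.val (e.injective h')
        have hyz := hCH y (by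
          rw [hy, Subgroup.coe_mul, Subgroup.coe_inv]
          calc (y2 : PS F)⁻¹ * y1 * w * ((y2 : PS F)⁻¹ * y1)⁻¹
              = (y2 : PS F)⁻¹ * ((y1 : PS F) * w * (y1 : PS F)⁻¹) * y2 := by group
            _ = w := by rw [h'']; group)
        have hd1 : orderOf (y : PS F) ∣ 3 := by
          rw [← hwo, ← Nat.card_zpowers w, ← Subgroup.orderOf_mk (y : PS F) hyz]
          exact orderOf_dvd_natCard _
        have hd2 : orderOf (y : PS F) ∣ 8 := by
          rw [Subgroup.orderOf_coe, ← hP]; exact orderOf_dvd_natCard y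
        have hy1 : (y : PS F) = 1 := orderOf_eq_one_iff.mp
          (Nat.eq_one_of_dvd_one (Nat.dvd_gcd hd1 hd2))
        apply hne
        have hy1' : y = 1 := Subtype.ext hy1
        rw [hy, inv_mul_eq_one] at hy1'
        exact hy1'.symm
      · rw [← map_inv] at h'
        have h'' : (y1 : PS F) * w * (y1 : PS F)⁻¹ = ((y2 : PS F) * w * (y2 : PS F)⁻¹)⁻¹ :=
          congrArg Subtype.val (e.injective h')
        calc (y2 : PS F)⁻¹ * y1 * w * ((y2 : PS F)⁻¹ * y1)⁻¹
            = (y2 : PS F)⁻¹ * ((y1 : PS F) * w * (y1 : PS F)⁻¹) * y2 := by group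
          _ = w⁻¹ := by rw [h'']; group
    intro y hy
    rcases hy with hy | hy
    · obtain ⟨i, hi⟩ := hCH y hy
      exact Subgroup.le_normalizer (hi ▸ zpow_mem hw i)
    · have hmy : m * y * w * (m * y)⁻¹ = w := by
        calc m * y * w * (m * y)⁻¹ = m * (y * w * y⁻¹) * m⁻¹ := by group
          _ = (m * w * m⁻¹)⁻¹ := by rw [hy]; group
          _ = w := by rw [hm, inv_inv]
      obtain ⟨i, hi⟩ := hCH _ hmy
      have : y = m⁻¹ * w ^ i := by
        rw [show w ^ i = m * y from hi]; group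
      rw [this]
      exact mul_mem (inv_mem hmN) (Subgroup.le_normalizer (zpow_mem hw i))
  have uniq : ∀ w ∈ H, w ≠ 1 → ∀ g : PS F, g⁻¹ * w * g ∈ H → g ∈ N := by
    intro w hw hw1 g hg
    have hu1 : e ⟨_, hg⟩ ≠ 1 := fun h' => hw1 (by
      rw [map_eq_one_iff _ e.injective] at h'
      have : g⁻¹ * w * g = 1 := congrArg Subtype.val h'
      calc w = g * (g⁻¹ * w * g) * g⁻¹ := by group
        _ = 1 := by rw [this]; group)
    have hw1' : e ⟨w, hw⟩ ≠ 1 := fun h' => hw1 (by
      rw [map_eq_one_iff _ e.injective] at h'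
      exact congrArg Subtype.val h')
    rcases alt_four_orders (e ⟨w, hw⟩) with hord | hord
    · have hww : w * w = 1 := by
        rw [← map_mul, map_eq_one_iff _ e.injective] at hord
        exact congrArg Subtype.val hord
      have huu : e ⟨_, hg⟩ * e ⟨_, hg⟩ = 1 := by
        rw [← map_mul, map_eq_one_iff _ e.injective]
        refine Subtype.ext ?_
        show g⁻¹ * w * g * (g⁻¹ * w * g) = 1
        calc g⁻¹ * w * g * (g⁻¹ * w * g) = g⁻¹ * (w * w) * g := by group
          _ = 1 := by rw [hww]; group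
      obtain ⟨z, hz⟩ := alt_four_conj_two _ _ hord hw1' huu hu1
      obtain ⟨z', rfl⟩ := e.surjective z
      rw [← map_inv, ← map_mul, ← map_mul, e.injective.eq_iff] at hz
      have hz' : (z' : PS F) * w * (z' : PS F)⁻¹ = g⁻¹ * w * g := congrArg Subtype.val hz
      have hgz : g * z' ∈ N := hM w hw (orderOf_eq_prime (by rw [pow_two, hww]) hw1) (by
        rw [Subgroup.mem_centralizer_singleton_iff]
        calc g * (z' : PS F) * w = g * ((z' : PS F) * w * (z' : PS F)⁻¹) * z' := by group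
          _ = w * (g * z') := by rw [hz']; group)
      simpa using mul_mem hgz (inv_mem (Subgroup.le_normalizer z'.2))
    · have hw3 : w ^ 3 = 1 := by
        rw [← map_pow, map_eq_one_iff _ e.injective] at hord
        simpa using congrArg Subtype.val hord
      have hu3 : e ⟨_, hg⟩ ^ 3 = 1 := by
        rw [← map_pow, map_eq_one_iff _ e.injective]
        refine Subtype.ext ?_
        show (g⁻¹ * w * g) ^ 3 = 1
        calc (g⁻¹ * w * g) ^ 3 = g⁻¹ * w ^ 3 * g := by
              rw [pow_three, pow_three]; group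
          _ = 1 := by rw [hw3]; group
      obtain ⟨z, hz⟩ := alt_four_conj_three _ _ hord hw1' hu3 hu1
      obtain ⟨z', rfl⟩ := e.surjective z
      have hgz : g * z' ∈ N := three w hw hw1 hw3 _ (by
        rcases hz with hz | hz
        · rw [← map_inv, ← map_mul, ← map_mul, e.injective.eq_iff] at hz
          have hz' : (z' : PS F) * w * (z' : PS F)⁻¹ = g⁻¹ * w * g := congrArg Subtype.val hz
          left
          calc g * (z' : PS F) * w * (g * z')⁻¹ = g * ((z' : PS F) * w * (z' : PS F)⁻¹) * g⁻¹ := by group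
            _ = w := by rw [hz']; group
        · rw [← map_inv, ← map_inv, ← map_mul, ← map_mul, e.injective.eq_iff] at hz
          have hz' : (z' : PS F) * w * (z' : PS F)⁻¹ = (g⁻¹ * w * g)⁻¹ := congrArg Subtype.val hz
          right
          calc g * (z' : PS F) * w * (g * z')⁻¹ = g * ((z' : PS F) * w * (z' : PS F)⁻¹) * g⁻¹ := by group
            _ = w⁻¹ := by rw [hz']; group)
      simpa using mul_mem hgz (inv_mem (Subgroup.le_normalizer z'.2))
  obtain ⟨a, hao, hac, haH⟩ : ∃ a : PS F, orderOf a = 2 ∧ a * h = h * a ∧ a ∉ H := by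
    by_contra hall
    push Not at hall
    exact hPH (hPh.trans (centralizer_le_of_involutions h2 hho fun a ha hc => hall a ha hc))
  have hhh : h * h = 1 := sq_one_of_orderOf_two hho
  have haa : a * a = 1 := sq_one_of_orderOf_two hao
  obtain ⟨b, hb'⟩ : ∃ b, b = a * h := ⟨_, rfl⟩
  have hba : b * a = h := by
    rw [hb', hac, mul_assoc, haa, mul_one]
  have hbo : orderOf b = 2 := by
    refine orderOf_two_of ?_ fun h' => haH ?_
    · calc b * b = (a * h) * (h * a) := by rw [hb']; nth_rw 2 [hac]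
        _ = a * (h * h) * a := by group
        _ = 1 := by rw [hhh, mul_one, haa]
    · rw [show a = h⁻¹ from eq_inv_of_mul_eq_one_left (hb' ▸ h')]
      exact inv_mem h₀.2
  obtain ⟨w, hwa, hwb, hw⟩ := exists_mem_fixInter_of_binary hb (a := a) (b := b)
    (by rw [hba]; exact h₀.2)
  obtain ⟨g, hg⟩ := exists_conj_inv_mem h2 h₀.2 hho hao
  obtain ⟨g2, hg2⟩ := exists_conj_inv_mem h2 h₀.2 hho hbo
  have hw1 : w ≠ 1 := fun h' => by
    rw [h', mul_one, H.inv_mem_iff] at hw
    exact haH hw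
  have hd : g⁻¹ * g2 ∈ N := uniq (g⁻¹ * w * g) (hwa g hg) (fun h' => hw1 (by
      calc w = g * (g⁻¹ * w * g) * g⁻¹ := by group
        _ = 1 := by rw [h']; group)) _ (by simpa [mul_assoc] using hwb g2 hg2)
  have hga : g2⁻¹ * a * g2 ∈ H := by
    simpa [mul_assoc] using (conj_mem_of_mem_normalizer hd hg).2
  have hgh : g2⁻¹ * h * g2 ∈ H := by
    rw [← hba]
    simpa [mul_assoc] using mul_mem hg2 hga
  have hg2N : g2 ∈ N := uniq h h₀.2 (ne_one_of_orderOf_two hho) g2 hgh
  have hgN : g ∈ N := by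
    simpa using mul_mem hg2N (inv_mem hd)
  apply haH
  simpa [mul_assoc] using (conj_mem_of_mem_normalizer hgN hg).1

/-- The fields with seven and nine elements. -/
theorem small_false (hq : Fintype.card F = 7 ∨ Fintype.card F = 9) (p : ℕ) [Fact p.Prime]
    [CharP F p] {H : Subgroup (PS F)} (hb : IsBinary H) (hp : ¬ p ∣ Nat.card H)
    (h2H : 2 ∣ Nat.card H) : False := by
  have h2 : (2 : F) ≠ 0 := two_ne_zero_of_card_odd (by omega)
  have h9 : Fintype.card F ≤ 9 := by omega
  haveI hG : IsSimpleGroup (PS F) := isSimpleGroup_PS (by omega)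
  have hcard : (Fintype.card F = 7 → Nat.card (PS F) = 168) ∧
      (Fintype.card F = 9 → Nat.card (PS F) = 360) := by
    have := gcd_mul_card_PS (F := F)
    refine ⟨fun h => ?_, fun h => ?_⟩
    · rw [h, show Nat.gcd 2 (7 - 1) = 2 from rfl, show 7 * (7 ^ 2 - 1) = 336 from rfl] at this
      omega
    · rw [h, show Nat.gcd 2 (9 - 1) = 2 from rfl, show 9 * (9 ^ 2 - 1) = 720 from rfl] at this
      omega
  obtain ⟨n, hpr, hn⟩ := FiniteField.card F p
  have hpd : p ∣ Fintype.card F := hn ▸ dvd_pow_self p n.ne_zero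
  have hp9 : Fintype.card F = 9 → p = 3 := fun h => by
    rw [h, show (9 : ℕ) = 3 ^ 2 by norm_num] at hpd
    exact (Nat.prime_dvd_prime_iff_eq hpr Nat.prime_three).mp (hpr.dvd_of_dvd_pow hpd)
  have hd : Nat.card H ∣ Nat.card (PS F) := Subgroup.card_subgroup_dvd_card H
  have h8 : 8 ∣ Nat.card (PS F) := by
    rcases hq with h | h
    · rw [hcard.1 h]; norm_num
    · rw [hcard.2 h]; norm_num
  have h16 : ¬ 16 ∣ Nat.card (PS F) := by
    rcases hq with h | h
    · rw [hcard.1 h]; norm_num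
    · rw [hcard.2 h]; norm_num
  have hsmall : (Nat.card H = 2 ∨ Nat.card H = 4 ∨ Nat.card H = 6 ∨ Nat.card H = 8 ∨
      Nat.card H = 10) → False := by
    intro hH
    haveI : Fact (Nat.Prime 2) := ⟨Nat.prime_two⟩
    obtain ⟨h₀, hh₀⟩ := exists_prime_orderOf_dvd_card' (G := H) 2 h2H
    have hho : orderOf (h₀ : PS F) = 2 := by rw [Subgroup.orderOf_coe, hh₀]
    refine false_of_eight h2 h8 hb (fun a ha => ?_) h₀.2 hho (by omega)
    obtain ⟨g, hg⟩ := exists_conj_inv_mem h2 h₀.2 hho ha
    set S := fixInter H a with hS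
    have hdvd : Nat.card S ∣ Nat.card H := by
      rw [← card_map_conj g⁻¹ S]
      refine Subgroup.card_dvd_of_le fun x hx => ?_
      rw [mem_map_conj_iff, inv_inv] at hx
      simpa [mul_assoc] using hx g hg
    have hev : 2 ∣ Nat.card S := by
      have := orderOf_dvd_natCard (⟨a, self_mem_fixInter H a⟩ : S)
      rwa [Subgroup.orderOf_mk, ha] at this
    obtain ⟨P, hP, hPa⟩ := exists_eight h2 h8 a ha
    refine small_fix p h2 h9 h16 hP hPa (hPa.trans (le_normalizer_fixInter H a))
      (fun h => hp (h.trans hdvd)) ?_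
    have hle := Nat.le_of_dvd Nat.card_pos hdvd
    have hpos : 0 < Nat.card S := Nat.card_pos
    rcases hH with h | h | h | h | h <;> rw [h] at hdvd hle <;>
      interval_cases (Nat.card S) <;> omega
  have hk : ∀ k, DvdTorus (Fintype.card F) k → k ≤ 5 ∧ 0 < k := by
    intro k hk
    rcases hq with h | h <;> rw [h] at hk <;> rcases hk with hk | hk <;> norm_num at hk <;>
      exact ⟨(Nat.le_of_dvd (by norm_num) hk).trans (by norm_num),
        Nat.pos_of_dvd_of_pos hk (by norm_num)⟩
  rcases classify_psl p H with ⟨-, -, hT⟩ | ⟨k, hk2, -, hT, ⟨e⟩⟩ | ⟨h, -⟩ | ⟨-, ⟨e⟩⟩ | ⟨-, ⟨e⟩⟩ |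
    ⟨-, ⟨e⟩⟩ | ⟨E, hE⟩
  · have := hk _ hT
    exact hsmall (by omega)
  · have := hk _ hT
    exact hsmall (by rw [Nat.card_congr e.toEquiv, DihedralGroup.nat_card]; omega)
  · exact hp h
  · rcases hq with h | h
    · exact alt_four_false p h2 h9 hG (hcard.1 h) hb hp e
    · exact hp (by rw [hp9 h, Nat.card_congr e.toEquiv, card_alt_four]; norm_num)
  · rcases hq with h | h
    · exact sym_four_false p h2 h9 hG (hcard.1 h) hb hp e
    · exact hp (by rw [hp9 h, Nat.card_congr e.toEquiv, card_sym_four]; norm_num)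
  · rw [Nat.card_congr e.toEquiv, card_alt_five] at hd hp
    rcases hq with h | h
    · rw [hcard.1 h] at hd; omega
    · exact hp (by rw [hp9 h]; norm_num)
  · haveI : CharP E p := inferInstance
    obtain ⟨m, -, hm⟩ := FiniteField.card E p
    have hdvd : p ∣ Fintype.card E := hm ▸ dvd_pow_self p m.ne_zero
    rcases hE with ⟨⟨e⟩⟩ | ⟨hp2, ⟨e⟩⟩
    · exact hp (by rw [Nat.card_congr e.toEquiv, card_PG]; exact dvd_mul_of_dvd_left hdvd _)
    · refine hp ?_
      rw [Nat.card_congr e.toEquiv]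
      have hd' : p ∣ Nat.gcd 2 (Fintype.card E - 1) * Nat.card (PS E) := by
        rw [gcd_mul_card_PS]; exact dvd_mul_of_dvd_left hdvd _
      refine ((Nat.Prime.dvd_mul Fact.out).mp hd').resolve_left fun h => hp2 ?_
      rw [((card_parity (F := E) p).1 hp2).2] at h
      exact (Nat.prime_dvd_prime_iff_eq Fact.out Nat.prime_two).mp h

end CfsgLib.PSL2Sub.Binary
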